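import Cfsg.Agent.Mrg.Omega.NO1.Cfg
import Cfsg.Agent.Mrg.Omega.Half.Basic
import Cfsg.Agent.Lib.FrattiniPGroup
import Mathlib
import Cfsg.Agent.Omega.NatPair.Semi

section


/-!
# The leaf N1, `V_P` a sum of `k ≥ 2` natural modules: the tool (text helper727 #14576 (0))

* `not_mem_o2` : in a frame `v ∉ O₂(H)` for every subgroup `H` containing `X = ⟨V₁, V₁^g⟩`;
* `not_mem_o2_centralizer` : `v ∉ O₂(C_G(d))` for every `d ∈ D`;
* `Fam` : the data of a frame at `v`.
-/

set_option autoImplicit false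
set_option linter.unusedSectionVars false

namespace Cfsg.Agent.Omega.NO1.Many

open Subgroup Cfsg Cfsg.Agent.ZN Cfsg.Agent.Omega.MinPar Cfsg.Agent.Omega.Frame
open Cfsg.Agent.Omega.NoFF.LinesPlug (CC NoOne)
open Cfsg.Agent.Omega.NoFF.Basic
open Cfsg.Agent.Omega.NOne Cfsg.Agent.Omega.NOne.NearFF
open Cfsg.Agent.MinSimple.VModule (o2_isPGroup)
open Cfsg.Agent.Omega.NOne.Frame (Fr X mem_conj' conj_mem norm_mem norm_mem')
open scoped Pointwise

universe u

variable {G : Type u} [Group G] [Finite G]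

theorem not_mem_o2 {V Q H : Subgroup G} {v g : G} (h : Fr (V1 V Q v) Q g) (hQ2 : IsPGroup 2 Q)
    (hX : ¬ IsPGroup 2 (X (V1 V Q v) g)) (hXH : X (V1 V Q v) g ≤ H) : v ∉ o2 H := by
  intro hv
  apply hX
  set W : Subgroup G := NOne.Frame.W (V1 V Q v) Q g with hW
  have hWQ : W ≤ Q := h.W_le_Q
  have hW2 : IsPGroup 2 W := hQ2.to_le hWQ
  have hXW : X (V1 V Q v) g ≤ normalizer (W : Set G) := h.X_norm_W
  have hXo : X (V1 V Q v) g ≤ normalizer ((o2 H ⊓ X (V1 V Q v) g : Subgroup G) : Set G) :=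
    Half.le_normalizer_inf (hXH.trans (le_normalizer_o2 H)) le_normalizer
  have hY2 : IsPGroup 2 ((o2 H ⊓ X (V1 V Q v) g : Subgroup G) ⊔ W : Subgroup G) :=
    IsPGroup.to_sup_of_normal_right' ((o2_isPGroup H).to_le inf_le_left) hW2 (inf_le_right.trans hXW)
  have hvX : v ∈ X (V1 V Q v) g := mem_sup_left (mem_sup_right (mem_zpowers v))
  have hV1 : V1 V Q v ≤ (o2 H ⊓ X (V1 V Q v) g : Subgroup G) ⊔ W := by
    refine sup_le ?_ (zpowers_le.2 (mem_sup_left (mem_inf.2 ⟨hv, hvX⟩)))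
    exact (le_inf le_sup_left inf_le_right : V ⊓ Q ≤ V1 V Q v ⊓ Q).trans
      ((le_sup_left : V1 V Q v ⊓ Q ≤ W).trans le_sup_right)
  have hXY : X (V1 V Q v) g ≤
      normalizer (((o2 H ⊓ X (V1 V Q v) g : Subgroup G) ⊔ W : Subgroup G) : Set G) := by
    intro x hx
    have key : ∀ x ∈ X (V1 V Q v) g, ∀ y ∈ (o2 H ⊓ X (V1 V Q v) g : Subgroup G) ⊔ W,
        x * y * x⁻¹ ∈ (o2 H ⊓ X (V1 V Q v) g : Subgroup G) ⊔ W := by
      intro x hx y hy
      have h1 : (o2 H ⊓ X (V1 V Q v) g : Subgroup G) ⊔ W ≤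
          ((o2 H ⊓ X (V1 V Q v) g : Subgroup G) ⊔ W).comap (MulAut.conj x).toMonoidHom := by
        refine sup_le (fun a ha => ?_) (fun a ha => ?_)
        · exact mem_sup_left (norm_mem (hXo hx) ha)
        · exact mem_sup_right (norm_mem (hXW hx) ha)
      exact h1 hy
    rw [mem_normalizer_iff]
    intro y
    refine ⟨key x hx y, fun hy => ?_⟩
    have := key x⁻¹ (inv_mem hx) _ hy
    have e : x⁻¹ * (x * y * x⁻¹) * x⁻¹⁻¹ = y := by group
    rwa [e] at this
  refine hY2.to_le (sup_le hV1 fun y hy => ?_)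
  obtain ⟨w, hw, rfl⟩ := mem_conj'.1 hy
  exact norm_mem (hXY h.gX) (hV1 hw)

/-- The data of a frame at `v ∈ V - Q`, `E = V ∩ Q`. -/
structure Fam (S : Sylow 2 G) (P : Subgroup G) (v g : G) : Prop where
  mem : v ∈ zl (S : Subgroup G) P
  notMem : v ∉ o2 (CC (S : Subgroup G))
  gC : g ∈ CC (S : Subgroup G)
  fin : Fin (zl (S : Subgroup G) P) (o2 (CC (S : Subgroup G))) v g
  notTwo : ¬ IsPGroup 2 (NOne.Frame.X (V1 (zl (S : Subgroup G) P) (o2 (CC (S : Subgroup G))) v) g)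

/-- `E = V ∩ Q` -/
abbrev EE (S P : Subgroup G) : Subgroup G := zl S P ⊓ o2 (CC S)

/-- `A = E^g` -/
abbrev AA (S P : Subgroup G) (g : G) : Subgroup G := MulAut.conj g • EE S P

/-- `D = E ∩ E^g` -/
abbrev DD (S P : Subgroup G) (g : G) : Subgroup G := EE S P ⊓ MulAut.conj g • EE S P

variable {S : Sylow 2 G} {P : Subgroup G}

theorem exists_fam (h : Cfg S P) {v : G} (hv : v ∈ zl (S : Subgroup G) P)
    (hvQ : v ∉ o2 (CC (S : Subgroup G))) : ∃ g, Fam S P v g := by
  obtain ⟨g, hg, hf, hX, -⟩ := h.exists_near hv hvQ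
  exact ⟨g, hv, hvQ, hg, hf, hX⟩

namespace Fam

variable {v g : G} (f : Fam S P v g)

include f

/-- **The tool**: `v ∉ O₂(C_G(d))` for `d ∈ D`. -/
theorem not_mem_o2_centralizer {d : G} (hd : d ∈ DD (S : Subgroup G) P g) :
    v ∉ o2 (centralizer ({d} : Set G)) := by
  refine not_mem_o2 f.fin.fr (o2_isPGroup _) f.notTwo ?_
  intro x hx
  rw [mem_centralizer_singleton_iff]
  refine f.fin.cent x ?_ d hd
  have h1 : V1 (zl (S : Subgroup G) P) (o2 (CC (S : Subgroup G))) v ≤ zl (S : Subgroup G) P := V1_le f.mem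
  have h2 : X (V1 (zl (S : Subgroup G) P) (o2 (CC (S : Subgroup G))) v) g ≤
      zl (S : Subgroup G) P ⊔ MulAut.conj g • zl (S : Subgroup G) P :=
    sup_le (h1.trans le_sup_left) ((Choice.conj_mono h1).trans le_sup_right)
  exact h2 hx

theorem near : Near (zl (S : Subgroup G) P) (EE (S : Subgroup G) P) (DD (S : Subgroup G) P g)
    (AA (S : Subgroup G) P g) v := f.fin.near

theorem A_le_Q : AA (S : Subgroup G) P g ≤ o2 (CC (S : Subgroup G)) := by
  have h1 : MulAut.conj g • o2 (CC (S : Subgroup G)) = o2 (CC (S : Subgroup G)) := f.fin.fr.gQ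
  rw [← h1]
  exact Choice.conj_mono inf_le_right

theorem A_le_S (h : Cfg S P) : AA (S : Subgroup G) P g ≤ S := f.A_le_Q.trans h.Q_le_S

theorem A_comm {a b : G} (ha : a ∈ AA (S : Subgroup G) P g) (hb : b ∈ AA (S : Subgroup G) P g) :
    a * b = b * a := NOne.Frame.comm_of_le_centralizer f.near.Fcomm ha hb

theorem A_sq {a : G} (ha : a ∈ AA (S : Subgroup G) P g) : a * a = 1 := by
  rw [← pow_two]
  exact f.near.Fsq a ha

theorem A_inv {a : G} (ha : a ∈ AA (S : Subgroup G) P g) : a⁻¹ = a := f.near.inv_F ha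

/-- `d ∈ D` is centralised by `A` -/
theorem D_fix {a d : G} (ha : a ∈ AA (S : Subgroup G) P g) (hd : d ∈ DD (S : Subgroup G) P g) :
    a * d * a⁻¹ = d := by
  have := f.near.Dcent hd ha
  rw [← this, mul_inv_cancel_right]

/-- `E = [v, A] D` : every `e ∈ E` is `(v (a v a⁻¹)) d`, `a ∈ A`, `d ∈ D` -/
theorem exists_eq {e : G} (he : e ∈ EE (S : Subgroup G) P) :
    ∃ a ∈ AA (S : Subgroup G) P g, ∃ d ∈ DD (S : Subgroup G) P g, e = v * (a * v * a⁻¹) * d := by
  obtain ⟨a, ha, h1⟩ := f.near.surj he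
  refine ⟨a, ha, _, inv_mem h1, ?_⟩
  have h2 : NearFF.c v a = v * (a * v * a⁻¹) := by
    have hv1 : v⁻¹ = v := f.near.inv_V f.mem
    rw [NearFF.c]
    conv_lhs => rw [hv1]
    group
  have h3 := f.near.V_comm (f.near.c_memV f.mem ha) he.1
  rw [← h2]
  calc e = e * NearFF.c v a * (NearFF.c v a)⁻¹ := by group
    _ = NearFF.c v a * e * (NearFF.c v a)⁻¹ := by rw [h3]
    _ = NearFF.c v a * (NearFF.c v a * e⁻¹)⁻¹ := by group

/-- `[v, a] ∈ D` implies `a ∈ D` -/
theorem inj {a : G} (ha : a ∈ AA (S : Subgroup G) P g)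
    (h : v * (a * v * a⁻¹) ∈ DD (S : Subgroup G) P g) : a ∈ DD (S : Subgroup G) P g := by
  refine f.near.inj a ha ?_
  have hv1 : v⁻¹ = v := f.near.inv_V f.mem
  have e : v * a * v⁻¹ * a⁻¹ = v * (a * v * a⁻¹) := by
    rw [hv1]; group
  rw [e]
  exact h

/-- `[w, a] ∈ E` for `w ∈ V` -/
theorem comm_mem {w a : G} (hw : w ∈ zl (S : Subgroup G) P) (ha : a ∈ AA (S : Subgroup G) P g) :
    w * (a * w * a⁻¹) ∈ EE (S : Subgroup G) P := by
  have h1 := f.near.comm w hw a ha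
  have hw1 : w⁻¹ = w := f.near.inv_V hw
  have e : w * a * w⁻¹ * a⁻¹ = w * (a * w * a⁻¹) := by
    conv_lhs => rw [hw1]
    group
  rwa [e] at h1

/-- `[e, a] ∈ D` for `e ∈ E` -/
theorem comm_mem_D {e a : G} (he : e ∈ EE (S : Subgroup G) P) (ha : a ∈ AA (S : Subgroup G) P g) :
    e * (a * e * a⁻¹) ∈ DD (S : Subgroup G) P g := by
  have h1 := f.near.ED e he a ha
  have hw1 : e⁻¹ = e := f.near.inv_V he.1
  have e : e * a * e⁻¹ * a⁻¹ = e * (a * e * a⁻¹) := by
    conv_lhs => rw [hw1]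
    group
  rwa [e] at h1

/-- `D` acts trivially on `V`. -/
theorem D_triv {d w : G} (hd : d ∈ DD (S : Subgroup G) P g) (hw : w ∈ zl (S : Subgroup G) P) :
    d * w * d⁻¹ = w := by
  have := f.near.V_comm (f.near.DV hd) hw
  rw [this, mul_inv_cancel_right]

/-- `C_A(v) = D` -/
theorem mem_D {a : G} (ha : a ∈ AA (S : Subgroup G) P g) (h : a * v * a⁻¹ = v) :
    a ∈ DD (S : Subgroup G) P g := by
  refine f.inj ha ?_
  rw [h]
  have := f.near.Vsq v f.mem
  rw [pow_two] at this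
  rw [this]
  exact one_mem _

end Fam

end Cfsg.Agent.Omega.NO1.Many

end

section


/-!
# The leaf N1, `V_P` a sum of `k` natural modules: coordinates

`M : NatK F T H V ⊥ k`, `hA : Amb T H V`.

* `comp_eq` : the component of `g x g⁻¹` at `σ i` depends only on the component of `x` at `i`;
* `line` : `T` preserves the lines `{x | x 1 = 0}`, with the permutation of the summands;
* `mem_of_comps` : `u ∈ X` if every component of `u` is in `X`;
* `Ln` : the sum of the lines; `Ln_le` : `Ln ≤ E` if `E ≤ V` is normalised by `T` and not contained in `Ln`;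
* `exists_blk` : an index-2 system of blocks, coarser than a given `T`-invariant equivalence relation.
-/

set_option autoImplicit false
set_option linter.unusedSectionVars false

namespace Cfsg.Agent.Omega.NO1.Many

open Subgroup Cfsg Cfsg.Agent.Omega.FFThm
open Cfsg.Agent.Omega.Half Cfsg.Agent.Omega.Half.NatA
open Cfsg.Agent.Lib.SL2Mat Cfsg.Agent.Omega.NatPair

universe u

variable {G : Type u} [Group G] {F : Type} [Field F] {T H V : Subgroup G} {k : ℕ}

section basic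

variable {M : NatK F T H V ⊥ k} (hA : Amb T H V)

include hA

theorem conj_mem' {g v : G} (hg : g ∈ H) (hv : v ∈ V) : g⁻¹ * v * g ∈ V := by
  have := hA.conj_mem (inv_mem hg) hv
  rwa [inv_inv] at this

theorem sq_self {v : G} (hv : v ∈ V) : v * v = 1 := by
  rw [← pow_two]
  exact hA.sq v hv

theorem self_inv {v : G} (hv : v ∈ V) : v⁻¹ = v := inv_eq_of_mul_eq_one_left (sq_self hA hv)

/-- the component of `g x g⁻¹` at `σ i` depends only on the component of `x` at `i` -/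
theorem comp_eq {g : G} {σ : Equiv.Perm (Fin k)} (h : Mv M g σ) (hg : g ∈ H) {x y : G} (hx : x ∈ V)
    (hy : y ∈ V) {i : Fin k} (hxy : M.e x i = M.e y i) :
    M.e (g * x * g⁻¹) (σ i) = M.e (g * y * g⁻¹) (σ i) := by
  have h1 : M.e (x * y⁻¹) i = 0 := by
    rw [M.mul x hx _ (inv_mem hy), e_inv M hy, Pi.add_apply, Pi.neg_apply, hxy, add_neg_cancel]
  have h2 := (h _ (mul_mem hx (inv_mem hy)) i).2 h1
  have e : g * (x * y⁻¹) * g⁻¹ = (g * x * g⁻¹) * (g * y * g⁻¹)⁻¹ := by group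
  rw [e, M.mul _ (hA.conj_mem hg hx) _ (inv_mem (hA.conj_mem hg hy)), e_inv M (hA.conj_mem hg hy),
    Pi.add_apply, Pi.neg_apply, ← sub_eq_add_neg] at h2
  exact sub_eq_zero.1 h2

omit hA in
theorem fac_single {i j : Fin k} {v : G} (hv : v ∈ fac M {i}) (hij : j ≠ i) : M.e v j = 0 :=
  hv.2 j hij

omit hA in
theorem eq_of_comp {i : Fin k} {v w : G} (hv : v ∈ fac M {i}) (hw : w ∈ fac M {i}) (h : M.e v i = M.e w i) :
    v = w := by
  apply inj M hv.1 hw.1
  funext j
  by_cases hj : j = i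
  · rw [hj, h]
  · rw [hv.2 j hj, hw.2 j hj]

omit hA in
theorem comp_ne_zero {i : Fin k} {v : G} (hv : v ∈ fac M {i}) (hv1 : v ≠ 1) : M.e v i ≠ 0 := by
  intro h
  apply hv1
  apply eq_one M hv.1
  funext j
  by_cases hj : j = i
  · rw [hj, h]; rfl
  · rw [hv.2 j hj]; rfl

theorem conj_fac {g : G} {σ : Equiv.Perm (Fin k)} (h : Mv M g σ) (hg : g ∈ H) {i : Fin k} {v : G}
    (hv : v ∈ fac M {i}) : g * v * g⁻¹ ∈ fac M {σ i} := by
  have := h.conj M hA hg hv
  rwa [Set.image_singleton] at this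

theorem mv_mul {g h : G} {σ τ : Equiv.Perm (Fin k)} (hh : h ∈ H) (h1 : Mv M g σ) (h2 : Mv M h τ) :
    Mv M (g * h) (σ * τ) := by
  intro v hv i
  have e1 : g * h * v * (g * h)⁻¹ = g * (h * v * h⁻¹) * g⁻¹ := by group
  rw [e1, Equiv.Perm.mul_apply, h1 _ (hA.conj_mem hh hv), h2 v hv]

/-- the permutation is determined by one vector -/
theorem mv_apply_eq {g : G} {σ : Equiv.Perm (Fin k)} (h : Mv M g σ) (hg : g ∈ H) {i j : Fin k} {v : G}
    (hv : v ∈ fac M {i}) (hj : M.e (g * v * g⁻¹) j ≠ 0) : σ i = j := by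
  by_contra hne
  exact hj ((conj_fac hA h hg hv).2 j fun h => hne h.symm)

/-- an element with a fixed vector with nonzero `i`-component fixes ... -/
theorem supp_iff {g d : G} {σ : Equiv.Perm (Fin k)} (h : Mv M g σ) (hd : d ∈ V) (hgd : g * d * g⁻¹ = d)
    (i : Fin k) : M.e d (σ i) = 0 ↔ M.e d i = 0 := by
  have := h d hd i
  rwa [hgd] at this

/-- `T` preserves the lines. -/
theorem line {t : G} (ht : t ∈ T) {σ : Equiv.Perm (Fin k)} (h : Mv M t σ) {v : G} (hv : v ∈ V) (i : Fin k) :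
    M.e (t * v * t⁻¹) (σ i) 1 = 0 ↔ M.e v i 1 = 0 := by
  obtain ⟨τ, hτ⟩ := M.line t ht
  have hστ : ∀ i, τ i = σ i := by
    intro i
    obtain ⟨w, hw, hwi⟩ := exists_fac M {i} fun _ => ![0, 1]
    have hwi := hwi i rfl
    by_contra hne
    have h1 := (conj_fac hA h (hA.TH ht) hw).2 (τ i) hne
    have h2 := (hτ w hw.1 i).1 (by rw [h1]; rfl)
    rw [hwi] at h2
    exact one_ne_zero h2
  rw [← hστ]
  exact hτ v hv i

omit hA in
/-- `u ∈ X` if every component of `u` is in `X`. -/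
theorem mem_of_comps {X : Subgroup G} {u : G} (hu : u ∈ V)
    (h : ∀ i, ∃ x ∈ X, x ∈ fac M {i} ∧ M.e x i = M.e u i) : u ∈ X := by
  have hall : ∀ s : Finset (Fin k), ∀ v ∈ V, (∀ i, ∃ x ∈ X, x ∈ fac M {i} ∧ M.e x i = M.e v i) →
      (∀ j, j ∉ s → M.e v j = 0) → v ∈ X := by
    intro s
    induction s using Finset.induction_on with
    | empty =>
      intro v hv _ h
      have : v = 1 := eq_one M hv (funext fun j => h j (Finset.notMem_empty j))
      rw [this]
      exact one_mem X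
    | insert a s has ih =>
      intro v hv hc h
      obtain ⟨x, hx, hxa, hxe⟩ := hc a
      have hcomp : ∀ i, M.e (v * x⁻¹) i = M.e v i - M.e x i := by
        intro i
        rw [M.mul v hv _ (inv_mem hxa.1), e_inv M hxa.1, Pi.add_apply, Pi.neg_apply, sub_eq_add_neg]
      have h1 : v * x⁻¹ ∈ X := by
        refine ih _ (mul_mem hv (inv_mem hxa.1)) (fun i => ?_) fun j hj => ?_
        · by_cases hia : i = a
          · refine ⟨1, one_mem X, one_mem _, ?_⟩
            rw [hcomp, hia, hxe, sub_self, e_one]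
            rfl
          · obtain ⟨y, hy, hyi, hye⟩ := hc i
            refine ⟨y, hy, hyi, ?_⟩
            rw [hcomp, hxa.2 i hia, sub_zero, hye]
        · by_cases hja : j = a
          · rw [hcomp, hja, hxe, sub_self]
          · rw [hcomp, hxa.2 j hja, sub_zero]
            exact h j fun h' => (Finset.mem_insert.1 h').elim hja hj
      have h2 : v = v * x⁻¹ * x := by group
      rw [h2]
      exact mul_mem h1 hx
  exact hall Finset.univ u hu h fun j hj => absurd (Finset.mem_univ j) hj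

end basic

/-! ### The sum of the lines -/

section lines

variable (M : NatK F T H V ⊥ k)

/-- the sum of the lines -/
def Ln : Subgroup G where
  carrier := {v | v ∈ V ∧ ∀ i, M.e v i 1 = 0}
  mul_mem' := by
    rintro v w ⟨hv, h1⟩ ⟨hw, h2⟩
    refine ⟨mul_mem hv hw, fun i => ?_⟩
    rw [M.mul v hv w hw, Pi.add_apply, Pi.add_apply, h1 i, h2 i, add_zero]
  one_mem' := ⟨one_mem V, fun i => by rw [e_one]; rfl⟩
  inv_mem' := by
    rintro v ⟨hv, h1⟩
    refine ⟨inv_mem hv, fun i => ?_⟩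
    rw [e_inv M hv, Pi.neg_apply, Pi.neg_apply, h1 i, neg_zero]

theorem mem_Ln {v : G} : v ∈ Ln M ↔ v ∈ V ∧ ∀ i, M.e v i 1 = 0 := Iff.rfl

variable {M} (hA : Amb T H V)

include hA

/-- `Ln ≤ E` if `E ≤ V` is normalised by `T` and `E ≰ Ln`. -/
theorem Ln_le {E : Subgroup G} (hEV : E ≤ V) (hT : ∀ t ∈ T, ∀ e ∈ E, t * e * t⁻¹ ∈ E) {e : G} (he : e ∈ E)
    {i : Fin k} (hi : M.e e i 1 ≠ 0) : Ln M ≤ E := by
  classical
  intro y hy
  refine mem_of_comps (M := M) hy.1 fun m => ?_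
  -- move `i` to `m`
  obtain ⟨s, hs, hsm⟩ := M.trans i m
  obtain ⟨σ, hσ⟩ := M.perm s (hA.TH hs)
  have hσi : σ i = m := Mv.unique M hA (σ := σ) hσ (hA.TH hs) hsm
  have he' := hT s hs e he
  have hm : M.e (s * e * s⁻¹) m 1 ≠ 0 := by
    rw [← hσi, Ne, line hA hs hσ (hEV he)]
    exact hi
  set c := s * e * s⁻¹ with hc
  obtain ⟨t, ht, hta, -⟩ := M.unip (Function.update 0 m (M.e y m 0 * (M.e c m 1)⁻¹))
  have h1 : t * c * t⁻¹ ∈ E := hT t ht c he'
  have hcV := hEV he'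
  have hta : ∀ v ∈ V, ∀ j, M.e (t * v * t⁻¹) j =
      ap (up (Function.update (0 : Fin k → F) m (M.e y m 0 * (M.e c m 1)⁻¹) j)) (M.e v j) := hta
  have hcomp : ∀ j, M.e (t * c * t⁻¹ * c⁻¹) j = if j = m then ![M.e y m 0, 0] else 0 := by
    intro j
    rw [M.mul _ (hEV h1) _ (inv_mem hcV), e_inv M hcV, Pi.add_apply, Pi.neg_apply, hta c hcV j]
    by_cases hj : j = m
    · rw [if_pos hj, hj, Function.update_self]
      apply ext2
      · rw [Pi.add_apply, Pi.neg_apply, ap_zero', up_00, up_01, one_mul, mul_assoc, inv_mul_cancel₀ hm, mul_one]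
        simp
      · rw [Pi.add_apply, Pi.neg_apply, ap_one', up_10, up_11, zero_mul, one_mul, zero_add, add_neg_cancel]
        rfl
    · rw [if_neg hj, Function.update_of_ne hj, Pi.zero_apply]
      apply ext2
      · rw [Pi.add_apply, Pi.neg_apply, ap_zero', up_00, up_01, one_mul, zero_mul, add_zero, add_neg_cancel]
        rfl
      · rw [Pi.add_apply, Pi.neg_apply, ap_one', up_10, up_11, zero_mul, one_mul, zero_add, add_neg_cancel]
        rfl
  refine ⟨_, mul_mem h1 (inv_mem he'), ⟨mul_mem (hEV h1) (inv_mem hcV), fun j hj => ?_⟩, ?_⟩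
  · rw [hcomp]
    exact if_neg (show ¬ j = m from hj)
  · rw [hcomp, if_pos rfl]
    exact ext2 rfl (hy.2 m).symm

end lines

/-! ### Blocks -/

section blocks

variable {M : NatK F T H V ⊥ k} (hA : Amb T H V)

include hA

/-- An index-2 system of blocks, coarser than a given `T`-invariant equivalence relation `R`. -/
theorem exists_blk [Finite G] (hT2 : IsPGroup 2 T) (R : Fin k → Fin k → Prop) (hrefl : ∀ a, R a a)
    (htrans : ∀ a b c, R a b → R b c → R a c)
    (hinv : ∀ t ∈ T, ∀ σ, Mv M t σ → ∀ a b, R a b → R (σ a) (σ b)) {i m₀ : Fin k} (hm₀ : ¬ R i m₀) :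
    ∃ B : Set (Fin k), Blk M B ∧ ∀ j, R i j → j ∉ B := by
  have : Fact (Nat.Prime 2) := ⟨Nat.prime_two⟩
  have hmv : ∀ t ∈ T, ∃ σ, Mv M t σ := fun t ht => M.perm t (hA.TH ht)
  have huniq : ∀ t ∈ T, ∀ σ τ, Mv M t σ → Mv M t τ → ∀ a, σ a = τ a := fun t ht σ τ hσ hτ a =>
    Mv.unique M hA (σ := σ) hσ (hA.TH ht) fun v hv => hτ v hv a
  -- the stabiliser of the class of `i`
  let N : Subgroup T :=
    { carrier := {t | ∀ σ, Mv M (t : G) σ → R i (σ i)}
      mul_mem' := by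
        rintro ⟨s, hs⟩ ⟨t, ht⟩ h1 h2 σ hσ
        obtain ⟨α, hα⟩ := hmv s hs
        obtain ⟨β, hβ⟩ := hmv t ht
        have h3 := huniq (s * t) (mul_mem hs ht) _ _ hσ (mv_mul hA (hA.TH ht) hα hβ) i
        rw [h3, Equiv.Perm.mul_apply]
        exact htrans _ _ _ (h1 α hα) (hinv s hs α hα _ _ (h2 β hβ))
      one_mem' := by
        intro σ hσ
        have h1 : Mv M (1 : G) (1 : Equiv.Perm (Fin k)) := by
          intro v hv i
          rw [one_mul, inv_one, mul_one]
          rfl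
        rw [huniq 1 (one_mem T) σ 1 hσ h1 i]
        exact hrefl i
      inv_mem' := by
        rintro ⟨t, ht⟩ h1 σ hσ
        -- powers of `t`
        obtain ⟨α, hα⟩ := hmv t ht
        have h2 := Mv.inv M hA (σ := α) hα (hA.TH ht)
        rw [huniq t⁻¹ (inv_mem ht) σ α.symm hσ h2 i]
        -- `t⁻¹ = t ^ n`
        have hpow : ∀ n : ℕ, R i ((α ^ n) i) := by
          intro n
          induction n with
          | zero => exact hrefl i
          | succ n ih =>
            rw [pow_succ', Equiv.Perm.mul_apply]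
            exact htrans _ _ _ (h1 α hα) (hinv t ht α hα _ _ ih)
        have h3 : α.symm = α ^ (orderOf α - 1) := by
          have h4 : α ^ (orderOf α - 1) * α = 1 := by
            rw [← pow_succ, Nat.sub_add_cancel (orderOf_pos α), pow_orderOf_eq_one]
          exact (eq_inv_of_mul_eq_one_left h4).symm
        rw [h3]
        exact hpow _ }
  have hN : N ≠ ⊤ := by
    intro h
    obtain ⟨t, ht, h1⟩ := M.trans i m₀
    obtain ⟨σ, hσ⟩ := hmv t ht
    have h2 : (⟨t, ht⟩ : T) ∈ N := h ▸ mem_top _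
    apply hm₀
    rw [← Mv.unique M hA (σ := σ) hσ (hA.TH ht) h1]
    exact h2 σ hσ
  obtain ⟨K, hK, hNK⟩ := (eq_top_or_exists_le_coatom N).resolve_left hN
  have hK2 : K.index = 2 := Lib.FrattiniPGroup.index_of_coatom hT2 hK
  have hstab : ∀ t (ht : t ∈ T) σ, Mv M t σ → σ i = i → (⟨t, ht⟩ : T) ∈ K := by
    intro t ht σ hσ h1
    refine hNK fun τ hτ => ?_
    rw [huniq t ht τ σ hτ hσ i, h1]
    exact hrefl i
  let B : Set (Fin k) := {m | ∃ t : T, t ∉ K ∧ ∃ σ, Mv M (t : G) σ ∧ σ i = m}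
  have hBc : ∀ m, m ∉ B ↔ ∃ t : T, t ∈ K ∧ ∃ σ, Mv M (t : G) σ ∧ σ i = m := by
    intro m
    constructor
    · intro h
      obtain ⟨t, ht, h1⟩ := M.trans i m
      obtain ⟨σ, hσ⟩ := hmv t ht
      have h2 := Mv.unique M hA (σ := σ) hσ (hA.TH ht) h1
      refine ⟨⟨t, ht⟩, ?_, σ, hσ, h2⟩
      by_contra h3
      exact h ⟨⟨t, ht⟩, h3, σ, hσ, h2⟩
    · rintro ⟨t, ht, σ, hσ, h1⟩ ⟨s, hs, τ, hτ, h2⟩
      apply hs
      have h3 : t⁻¹ * s ∈ K := by
        refine hstab _ (mul_mem (inv_mem t.2) s.2) (σ.symm * τ) ?_ ?_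
        · exact mv_mul hA (hA.TH s.2) (Mv.inv M hA (σ := σ) hσ (hA.TH t.2)) hτ
        · rw [Equiv.Perm.mul_apply, h2, ← h1, Equiv.symm_apply_apply]
      have h4 := K.mul_mem ht h3
      rwa [mul_inv_cancel_left] at h4
  have hmov : ∀ (t : T) σ, Mv M (t : G) σ → ∀ m, (t ∈ K → (σ m ∈ B ↔ m ∈ B)) ∧ (t ∉ K → (σ m ∈ B ↔ m ∉ B)) := by
    intro t σ hσ m
    have key : ∀ s : T, ∀ τ, Mv M (s : G) τ → τ i = m → ((t * s : T) ∉ K ↔ σ m ∈ B) := by
      intro s τ hτ h1
      have h2 : Mv M ((t * s : T) : G) (σ * τ) := mv_mul hA (hA.TH s.2) hσ hτ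
      have h3 : (σ * τ) i = σ m := by rw [Equiv.Perm.mul_apply, h1]
      constructor
      · intro h
        exact ⟨_, h, _, h2, h3⟩
      · intro h h4
        exact (hBc (σ m)).2 ⟨_, h4, _, h2, h3⟩ h
    have key2 : ∀ s : T, ∀ τ, Mv M (s : G) τ → τ i = m → (s ∉ K ↔ m ∈ B) := by
      intro s τ hτ h1
      constructor
      · intro h
        exact ⟨_, h, _, hτ, h1⟩
      · intro h h4
        exact (hBc m).2 ⟨_, h4, _, hτ, h1⟩ h
    obtain ⟨s, hs, h1⟩ := M.trans i m
    obtain ⟨τ, hτ⟩ := hmv s hs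
    have h2 := Mv.unique M hA (σ := τ) hτ (hA.TH hs) h1
    have h3 := key ⟨s, hs⟩ τ hτ h2
    have h4 := key2 ⟨s, hs⟩ τ hτ h2
    have h5 := mul_mem_iff_of_index_two hK2 (a := t) (b := ⟨s, hs⟩)
    constructor
    · intro ht
      rw [← h3, ← h4, h5]
      simp [ht]
    · intro ht
      rw [← h3, ← h4, h5]
      simp [ht]
  have hi : i ∉ B := by
    rw [hBc]
    refine ⟨1, one_mem K, 1, ?_, rfl⟩
    intro v hv i
    rw [OneMemClass.coe_one, one_mul, inv_one, mul_one]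
    rfl
  refine ⟨B, ⟨?_, ⟨i, hi⟩, ?_⟩, ?_⟩
  · -- `B` is not empty
    obtain ⟨t, ht⟩ : ∃ t : T, t ∉ K := by
      by_contra h
      push Not at h
      exact hK.1 ((eq_top_iff' K).2 h)
    obtain ⟨σ, hσ⟩ := hmv t t.2
    exact ⟨σ i, t, ht, σ, hσ, rfl⟩
  · intro t ht σ hσ
    by_cases htK : (⟨t, ht⟩ : T) ∈ K
    · left
      ext m
      constructor
      · rintro ⟨a, ha, rfl⟩
        exact ((hmov ⟨t, ht⟩ σ hσ a).1 htK).2 ha
      · intro hm
        refine ⟨σ.symm m, ?_, σ.apply_symm_apply m⟩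
        rw [← (hmov ⟨t, ht⟩ σ hσ _).1 htK, σ.apply_symm_apply]
        exact hm
    · right
      ext m
      constructor
      · rintro ⟨a, ha, rfl⟩ h
        exact ((hmov ⟨t, ht⟩ σ hσ a).2 htK).1 h ha
      · intro hm
        refine ⟨σ.symm m, ?_, σ.apply_symm_apply m⟩
        by_contra h
        rw [← (hmov ⟨t, ht⟩ σ hσ _).2 htK, σ.apply_symm_apply] at h
        exact hm h
  · intro j hj
    rw [hBc]
    obtain ⟨t, ht, h1⟩ := M.trans i j
    obtain ⟨σ, hσ⟩ := hmv t ht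
    have h2 := Mv.unique M hA (σ := σ) hσ (hA.TH ht) h1
    refine ⟨⟨t, ht⟩, hNK fun τ hτ => ?_, σ, hσ, h2⟩
    rw [huniq t ht τ σ hτ hσ i, h2]
    exact hj

end blocks

end Cfsg.Agent.Omega.NO1.Many

end

section


/-!
# The elements of `H` act semilinearly on the summands

`exists_T` : for `g ∈ H` with permutation `σ` and every `i` there is an additive, semilinear map `T` with
`e (g v g⁻¹) (σ i) = T (e v i)`.
-/

set_option autoImplicit false
set_option linter.unusedSectionVars false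

namespace Cfsg.Agent.Omega.NO1.Many

open Subgroup Cfsg Cfsg.Agent.Omega.FFThm
open Cfsg.Agent.Omega.Half Cfsg.Agent.Omega.Half.NatA
open Cfsg.Agent.Lib.SL2Mat Cfsg.Agent.Omega.NatPair

universe u

variable {G : Type u} [Group G] {F : Type} [Field F] {T H V : Subgroup G} {k : ℕ}

/-- The action of an element of `H` on a summand. -/
structure Sem (M : NatK F T H V ⊥ k) (g : G) (σ : Equiv.Perm (Fin k)) (i : Fin k)
    (L : (Fin 2 → F) → (Fin 2 → F)) (τ : F → F) : Prop where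
  add : ∀ x y, L (x + y) = L x + L y
  smul : ∀ (c : F) x, L (c • x) = τ c • L x
  e : ∀ v ∈ V, M.e (g * v * g⁻¹) (σ i) = L (M.e v i)

theorem exists_T {M : NatK F T H V ⊥ k} (hA : Amb T H V) {g : G} (hg : g ∈ H) {σ : Equiv.Perm (Fin k)}
    (hσ : Mv M g σ) (i : Fin k) : ∃ L τ, Sem M g σ i L τ := by
  classical
  have hι : ∀ (j : Fin k) (x : Fin 2 → F), ∃ v ∈ fac M {j}, M.e v j = x := by
    intro j x
    obtain ⟨v, hv, h⟩ := exists_fac M {j} fun _ => x
    exact ⟨v, hv, h j rfl⟩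
  choose ι hι1 hι2 using hι
  have hσ' := Mv.inv M hA (σ := σ) hσ hg
  have hgi : g⁻¹ ∈ H := inv_mem hg
  set L : (Fin 2 → F) → (Fin 2 → F) := fun x => M.e (g * ι i x * g⁻¹) (σ i) with hL
  set L' : (Fin 2 → F) → (Fin 2 → F) := fun y => M.e (g⁻¹ * ι (σ i) y * g) i with hL'
  have he : ∀ v ∈ V, M.e (g * v * g⁻¹) (σ i) = L (M.e v i) := by
    intro v hv
    exact comp_eq hA hσ hg hv (hι1 i _).1 (hι2 i _).symm
  have he' : ∀ v ∈ V, M.e (g⁻¹ * v * g) i = L' (M.e v (σ i)) := by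
    intro v hv
    have h1 := comp_eq hA hσ' hgi hv (hι1 (σ i) (M.e v (σ i))).1 (hι2 (σ i) _).symm
    rw [Equiv.symm_apply_apply, inv_inv] at h1
    exact h1
  have hadd : ∀ x y, L (x + y) = L x + L y := by
    intro x y
    have h1 : M.e (ι i x * ι i y) i = x + y := by
      rw [M.mul _ (hι1 i x).1 _ (hι1 i y).1, Pi.add_apply, hι2, hι2]
    rw [← h1, ← he _ (mul_mem (hι1 i x).1 (hι1 i y).1)]
    have e1 : g * (ι i x * ι i y) * g⁻¹ = (g * ι i x * g⁻¹) * (g * ι i y * g⁻¹) := by group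
    rw [e1, M.mul _ (hA.conj_mem hg (hι1 i x).1) _ (hA.conj_mem hg (hι1 i y).1)]
    rfl
  have h1 : ∀ x, L' (L x) = x := by
    intro x
    rw [hL]
    change L' (M.e (g * ι i x * g⁻¹) (σ i)) = x
    rw [← he' _ (hA.conj_mem hg (hι1 i x).1)]
    have e1 : g⁻¹ * (g * ι i x * g⁻¹) * g = ι i x := by group
    rw [e1, hι2]
  have h2 : ∀ x, L (L' x) = x := by
    intro x
    change L (M.e (g⁻¹ * ι (σ i) x * g) i) = x
    rw [← he _ (conj_mem' hA hg (hι1 (σ i) x).1)]
    have e1 : g * (g⁻¹ * ι (σ i) x * g) * g⁻¹ = ι (σ i) x := by group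
    rw [e1, hι2]
  have hn : ∀ A : Matrix.SpecialLinearGroup (Fin 2) F, ∃ B : Matrix.SpecialLinearGroup (Fin 2) F,
      ∀ x, L' (ap A (L x)) = ap B x := by
    intro A
    obtain ⟨h, hh, hhA, -⟩ := M.lift (Function.update 1 (σ i) A)
    obtain ⟨B, hB⟩ := M.norm g⁻¹ hgi h hh _ hhA
    refine ⟨B i, fun x => ?_⟩
    have h3 : M.e (h * (g * ι i x * g⁻¹) * h⁻¹) (σ i) = ap A (L x) := by
      rw [hhA _ (hA.conj_mem hg (hι1 i x).1) (σ i), Function.update_self]
    rw [← h3, ← he' _ (hA.conj_mem hh (hA.conj_mem hg (hι1 i x).1))]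
    have h4 := hB (ι i x) (hι1 i x).1 i
    rw [hι2] at h4
    rw [← h4]
    congr 1
    group
  obtain ⟨τ, hτ⟩ := NatPair.exists_semi L L' hadd h1 h2 hn
  exact ⟨L, τ, hadd, hτ, he⟩

namespace Sem

variable {M : NatK F T H V ⊥ k} {g : G} {σ : Equiv.Perm (Fin k)} {i : Fin k}
  {L : (Fin 2 → F) → (Fin 2 → F)} {τ : F → F} (s : Sem M g σ i L τ) (hσ : Mv M g σ)

include s hσ

theorem inj {x : Fin 2 → F} (h : L x = 0) : x = 0 := by
  obtain ⟨v, hv, hx⟩ := exists_fac M {i} fun _ => x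
  have hx := hx i rfl
  rw [← hx] at h ⊢
  rw [← s.e v hv.1] at h
  exact (hσ v hv.1 i).1 h

theorem tau_add (c d : F) : τ (c + d) = τ c + τ d := by
  have h1 : L ![1, 0] ≠ 0 := fun h => one_ne_zero (congrFun (s.inj hσ h) 0)
  have h2 : τ (c + d) • L ![1, 0] = (τ c + τ d) • L ![1, 0] := by
    rw [← s.smul, add_smul, s.add, s.smul, s.smul, ← add_smul]
  exact smul_left_injective F h1 h2

theorem tau_one : τ 1 = 1 := by
  have h1 : L ![1, 0] ≠ 0 := fun h => one_ne_zero (congrFun (s.inj hσ h) 0)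
  have h2 : τ 1 • L ![1, 0] = (1 : F) • L ![1, 0] := by
    rw [← s.smul, one_smul, one_smul]
  exact smul_left_injective F h1 h2

end Sem

end Cfsg.Agent.Omega.NO1.Many

end

section


/-!
# The leaf N1, `V_P` a sum of `k ≥ 2` natural modules, `Q` moves a summand (text helper727 #14576 (1), (2), (4))

`v ∈ V_i - E`, a frame at `v`, `f₁ ∈ A = E^g` moves `V_i` to `V_j`, `j ≠ i`; the lines lie in `E`.
`Swap.main` : `|F| = 2` and `k = 2`.
-/

set_option autoImplicit false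
set_option linter.unusedSectionVars false

namespace Cfsg.Agent.Omega.NO1.Many

open Subgroup Cfsg Cfsg.Agent.ZN Cfsg.Agent.Omega.MinPar Cfsg.Agent.Omega.Frame Cfsg.Agent.Omega.FFThm
open Cfsg.Agent.Omega.NoFF.LinesPlug (CC NoOne)
open Cfsg.Agent.Omega.Half Cfsg.Agent.Omega.Half.NatA
open Cfsg.Agent.Lib.SL2Mat Cfsg.Agent.Omega.NatPair
open scoped Pointwise

universe u

variable {G : Type u} [Group G] [Finite G] {S : Sylow 2 G} {P : Subgroup G}

theorem amb (h : Cfg S P) : Amb (S : Subgroup G) P (zl (S : Subgroup G) P) :=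
  amb_of_loc h.ctx.char2 S h.loc

/-- `E` is normalised by `S`. -/
theorem E_conj (h : Cfg S P) {t e : G} (ht : t ∈ (S : Subgroup G)) (he : e ∈ EE (S : Subgroup G) P) :
    t * e * t⁻¹ ∈ EE (S : Subgroup G) P := by
  refine mem_inf.2 ⟨(amb h).conj_mem (h.S_le ht) he.1, ?_⟩
  exact (mem_normalizer_iff.1 (le_normalizer_o2 _ (Cfg.S_le_CC S ht)) e).1 he.2

section fam

variable (h : Cfg S P) {F : Type} [Field F] [CharP F 2] {k : ℕ}
  {M : NatK F (S : Subgroup G) P (zl (S : Subgroup G) P) ⊥ k} {v g : G} (f : Fam S P v g)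

include h

include f in
/-- the decomposition `E = [v, A] D` in coordinates -/
theorem dec {e : G} (he : e ∈ EE (S : Subgroup G) P) : ∃ a ∈ AA (S : Subgroup G) P g,
    ∃ d ∈ DD (S : Subgroup G) P g, ∀ m, M.e d m = M.e v m + M.e (a * v * a⁻¹) m + M.e e m := by
  obtain ⟨a, ha, d, hd, h1⟩ := f.exists_eq he
  have hA := amb h
  have hav : a * v * a⁻¹ ∈ zl (S : Subgroup G) P := hA.conj_mem (h.S_le (f.A_le_S h ha)) f.mem
  refine ⟨a, ha, d, hd, fun m => ?_⟩
  have h2 : M.e e m = M.e v m + M.e (a * v * a⁻¹) m + M.e d m := by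
    rw [h1, M.mul _ (mul_mem f.mem hav) _ (f.near.DV hd), M.mul _ f.mem _ hav]
    rfl
  rw [h2]
  have e2 : ∀ x y : Fin 2 → F, x + y + (x + y + M.e d m) = M.e d m := by
    intro x y
    rw [← add_assoc, show x + y + (x + y) = 0 from funext fun _ => CharTwo.add_self_eq_zero _, zero_add]
  exact (e2 _ _).symm

include f in
theorem AP {a : G} (ha : a ∈ AA (S : Subgroup G) P g) : a ∈ P := h.S_le (f.A_le_S h ha)

include f in
/-- the permutation of an element of `A` is an involution -/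
theorem mv_sq {a : G} (ha : a ∈ AA (S : Subgroup G) P g) {σ : Equiv.Perm (Fin k)} (hσ : Mv M a σ) (m : Fin k) :
    σ (σ m) = m := by
  have hA := amb h
  have h1 := mv_mul hA (AP h f ha) hσ hσ
  rw [f.A_sq ha] at h1
  refine Mv.unique M hA (σ := σ * σ) h1 (one_mem P) fun w _ => ?_
  rw [one_mul, inv_one, mul_one]

omit h in
theorem add_eq_zero_iff' {x y : Fin 2 → F} : x + y = 0 ↔ x = y := by
  constructor
  · intro h0
    have h1 : x + y + y = y := by rw [h0, zero_add]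
    rwa [add_assoc, show y + y = 0 from funext fun _ => CharTwo.add_self_eq_zero _, add_zero] at h1
  · rintro rfl
    exact funext fun _ => CharTwo.add_self_eq_zero _

end fam

/-! ### `A` moves the summand of `v` -/

section swap

variable (h : Cfg S P) {F : Type} [Field F] [CharP F 2] {k : ℕ}
  {M : NatK F (S : Subgroup G) P (zl (S : Subgroup G) P) ⊥ k} {v g : G} (f : Fam S P v g)
  {i j : Fin k} (hv : v ∈ fac M {i}) {f1 : G} (hf1 : f1 ∈ AA (S : Subgroup G) P g)
  {σ1 : Equiv.Perm (Fin k)} (hσ1 : Mv M f1 σ1) (hij : σ1 i = j) (hne : j ≠ i)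

include h f hv hf1 hσ1 hij hne

theorem v_ne_one : v ≠ 1 := fun h1 => f.notMem (h1 ▸ one_mem _)

theorem sigma_j : σ1 j = i := by rw [← hij]; exact mv_sq h f hf1 hσ1 i

/-- The orbit of `i` is `{i, j}`. -/
theorem orbit {b : G} (hb : b ∈ AA (S : Subgroup G) P g) {σ : Equiv.Perm (Fin k)} (hσ : Mv M b σ) :
    σ i = i ∨ σ i = j := by
  have hA := amb h
  by_contra hcon
  push Not at hcon
  obtain ⟨hmi, hmj⟩ := hcon
  have hv1 := v_ne_one h f hv hf1 hσ1 hij hne
  have hvi := comp_ne_zero hv hv1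
  obtain ⟨y, hy0, hy1⟩ := exists_ne_ne (M.e v i)
  obtain ⟨w, hw, hwy⟩ := exists_fac M {i} fun _ => y
  have hwy := hwy i rfl
  have hf1P := AP h f hf1
  have hwf : f1 * w * f1⁻¹ ∈ fac M {j} := hij ▸ conj_fac hA hσ1 hf1P hw
  have hwf0 : M.e (f1 * w * f1⁻¹) j ≠ 0 := by
    rw [← hij, Ne, hσ1 w hw.1 i, hwy]
    exact hy0
  obtain ⟨a, ha, d, hd, hde⟩ := dec (M := M) h f (f.comm_mem hw.1 hf1)
  have haP := AP h f ha
  obtain ⟨σa, hσa⟩ := M.perm a haP
  have hva : a * v * a⁻¹ ∈ fac M {σa i} := conj_fac hA hσa haP hv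
  have hdV := f.near.DV hd
  have hE : ∀ m, M.e d m = M.e v m + M.e (a * v * a⁻¹) m + (M.e w m + M.e (f1 * w * f1⁻¹) m) := by
    intro m
    rw [hde, M.mul _ hw.1 _ hwf.1]
    rfl
  have hfb := f.D_fix hb hd
  have hff := f.D_fix hf1 hd
  have s1 := supp_iff hA hσ hdV hfb i
  by_cases h1 : σa i = i
  · -- `j` is in the support
    have h2 : M.e d j ≠ 0 := by
      rw [hE, hv.2 j hne, hva.2 j (by rw [h1]; exact hne), hw.2 j hne, zero_add, zero_add, zero_add]
      exact hwf0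
    have h3 : M.e d i ≠ 0 := by
      have := supp_iff hA hσ1 hdV hff j
      rw [sigma_j h f hv hf1 hσ1 hij hne] at this
      rwa [Ne, this]
    apply mt s1.1 h3
    rw [hE, hv.2 _ hmi, hva.2 _ (by rw [h1]; exact hmi), hw.2 _ hmi, hwf.2 _ hmj]
    simp
  by_cases h2 : σa i = j
  · have h3 : M.e d i ≠ 0 := by
      rw [hE, hva.2 i (by rw [h2]; exact hne.symm), hwf.2 i hne.symm, add_zero, add_zero]
      intro h4
      rw [hwy] at h4
      exact hy1 (add_eq_zero_iff'.1 h4).symm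
    apply mt s1.1 h3
    rw [hE, hv.2 _ hmi, hva.2 _ (by rw [h2]; exact hmj), hw.2 _ hmi, hwf.2 _ hmj]
    simp
  · -- the components `i` and `j` of `d`
    have h3 : M.e d i = M.e (v * w) i := by
      rw [hE, hva.2 i fun h' => h1 h'.symm, hwf.2 i hne.symm, M.mul v hv.1 w hw.1, add_zero, add_zero]
      rfl
    have h4 := comp_eq hA hσ1 hf1P hdV (mul_mem hv.1 hw.1) h3
    rw [hff, hij, hE, hv.2 j hne, hva.2 j fun h' => h2 h'.symm, hw.2 j hne, zero_add, zero_add, zero_add] at h4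
    have e1 : f1 * (v * w) * f1⁻¹ = (f1 * v * f1⁻¹) * (f1 * w * f1⁻¹) := by group
    rw [e1, M.mul _ (hA.conj_mem hf1P hv.1) _ hwf.1, Pi.add_apply] at h4
    have h5 : M.e (f1 * v * f1⁻¹) j = 0 := right_eq_add.1 h4
    rw [← hij, hσ1 v hv.1] at h5
    exact hvi h5

/-- `w` or `v w` is centralised by the stabiliser of `i` in `A`. -/
theorem cent_or {w : G} (hw : w ∈ fac M {i}) :
    (∀ b ∈ AA (S : Subgroup G) P g, ∀ σ, Mv M b σ → σ i = i → M.e (b * w * b⁻¹) i = M.e w i) ∨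
      ∀ b ∈ AA (S : Subgroup G) P g, ∀ σ, Mv M b σ → σ i = i →
        M.e (b * (v * w) * b⁻¹) i = M.e (v * w) i := by
  have hA := amb h
  have hf1P := AP h f hf1
  have hwf : f1 * w * f1⁻¹ ∈ fac M {j} := hij ▸ conj_fac hA hσ1 hf1P hw
  obtain ⟨a, ha, d, hd, hde⟩ := dec (M := M) h f (f.comm_mem hw.1 hf1)
  have haP := AP h f ha
  obtain ⟨σa, hσa⟩ := M.perm a haP
  have hva : a * v * a⁻¹ ∈ fac M {σa i} := conj_fac hA hσa haP hv
  have hdV := f.near.DV hd
  have hE : ∀ m, M.e d m = M.e v m + M.e (a * v * a⁻¹) m + (M.e w m + M.e (f1 * w * f1⁻¹) m) := by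
    intro m
    rw [hde, M.mul _ hw.1 _ hwf.1]
    rfl
  have hff := f.D_fix hf1 hd
  rcases orbit h f hv hf1 hσ1 hij hne ha hσa with h1 | h1
  · left
    -- `v ^ a = v`
    have h3 : M.e d i = M.e (v * (a * v * a⁻¹) * w) i := by
      rw [hE, hwf.2 i hne.symm, M.mul _ (mul_mem hv.1 hva.1) w hw.1, M.mul _ hv.1 _ hva.1, add_zero]
      rfl
    have h4 := comp_eq hA hσ1 hf1P hdV (mul_mem (mul_mem hv.1 hva.1) hw.1) h3
    rw [hff, hij, hE, hv.2 j hne, hva.2 j (by rw [h1]; exact hne), hw.2 j hne, zero_add, zero_add, zero_add] at h4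
    have e1 : f1 * (v * (a * v * a⁻¹) * w) * f1⁻¹ = (f1 * (v * (a * v * a⁻¹)) * f1⁻¹) * (f1 * w * f1⁻¹) := by
      group
    rw [e1, M.mul _ (hA.conj_mem hf1P (mul_mem hv.1 hva.1)) _ hwf.1, Pi.add_apply] at h4
    have h5 : M.e (f1 * (v * (a * v * a⁻¹)) * f1⁻¹) j = 0 := right_eq_add.1 h4
    rw [← hij, hσ1 _ (mul_mem hv.1 hva.1), M.mul _ hv.1 _ hva.1, Pi.add_apply] at h5
    have h6 : M.e d i = M.e w i := by
      rw [hE, h5, hwf.2 i hne.symm, zero_add, add_zero]
    intro b hb σ hσ hσi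
    have h7 := comp_eq hA hσ (AP h f hb) hdV hw.1 h6
    rw [f.D_fix hb hd, hσi] at h7
    rw [← h7, h6]
  · right
    have h6 : M.e d i = M.e (v * w) i := by
      rw [hE, hva.2 i (by rw [h1]; exact hne.symm), hwf.2 i hne.symm, M.mul v hv.1 w hw.1, add_zero, add_zero]
      rfl
    intro b hb σ hσ hσi
    have h7 := comp_eq hA hσ (AP h f hb) hdV (mul_mem hv.1 hw.1) h6
    rw [f.D_fix hb hd, hσi] at h7
    rw [← h7, h6]

/-- the elements of `E ∩ V_i` are the `v v^b`, `b ∈ A` fixing `i` -/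
theorem exists_b {e : G} (he : e ∈ EE (S : Subgroup G) P) (hei : e ∈ fac M {i}) :
    ∃ b ∈ AA (S : Subgroup G) P g, ∃ σ, Mv M b σ ∧ σ i = i ∧
      M.e (b * v * b⁻¹) i = M.e v i + M.e e i := by
  have hA := amb h
  have hf1P := AP h f hf1
  obtain ⟨a, ha, d, hd, hE⟩ := dec (M := M) h f he
  have haP := AP h f ha
  obtain ⟨σa, hσa⟩ := M.perm a haP
  have hva : a * v * a⁻¹ ∈ fac M {σa i} := conj_fac hA hσa haP hv
  have hdV := f.near.DV hd
  have hff := f.D_fix hf1 hd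
  rcases orbit h f hv hf1 hσ1 hij hne ha hσa with h1 | h1
  · refine ⟨a, ha, σa, hσa, h1, ?_⟩
    have h2 : M.e d j = 0 := by
      rw [hE, hv.2 j hne, hva.2 j (by rw [h1]; exact hne), hei.2 j hne]
      simp
    have h3 := supp_iff hA hσ1 hdV hff i
    rw [hij] at h3
    have h4 := h3.1 h2
    rw [hE] at h4
    have h5 := add_eq_zero_iff'.1 h4
    rw [← h5, ← add_assoc, show M.e v i + M.e v i = 0 from funext fun _ => CharTwo.add_self_eq_zero _, zero_add]
  · have h3 : M.e d i = M.e (v * e) i := by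
      rw [hE, hva.2 i (by rw [h1]; exact hne.symm), M.mul v hv.1 e hei.1, add_zero]
      rfl
    have h4 := comp_eq hA hσ1 hf1P hdV (mul_mem hv.1 hei.1) h3
    rw [hff, hij, hE, hv.2 j hne, hei.2 j hne, zero_add, add_zero] at h4
    have h5 : f1 * (v * e) * f1⁻¹ ∈ fac M {j} := hij ▸ conj_fac hA hσ1 hf1P (mul_mem hv hei)
    have h6 : a * v * a⁻¹ = f1 * (v * e) * f1⁻¹ := eq_of_comp (h1 ▸ hva) h5 h4
    refine ⟨f1 * a, mul_mem hf1 ha, σ1 * σa, mv_mul hA haP hσ1 hσa, ?_, ?_⟩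
    · rw [Equiv.Perm.mul_apply, h1]
      exact sigma_j h f hv hf1 hσ1 hij hne
    · have e1 : f1 * a * v * (f1 * a)⁻¹ = f1 * (a * v * a⁻¹) * f1⁻¹ := by group
      have e2 : f1 * (f1 * (v * e) * f1⁻¹) * f1⁻¹ = (f1 * f1) * (v * e) * (f1 * f1)⁻¹ := by group
      rw [e1, h6, e2, f.A_sq hf1, one_mul, inv_one, mul_one, M.mul v hv.1 e hei.1]
      rfl

/-- `|F| = 2` -/
theorem card_two (hL : Ln M ≤ EE (S : Subgroup G) P) (c : F) : c = 0 ∨ c = 1 := by
  have hA := amb h
  obtain ⟨l, hl, hle⟩ := exists_fac M {i} fun _ => ![1, 0]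
  have hle := hle i rfl
  have hlL : l ∈ Ln M := by
    refine ⟨hl.1, fun m => ?_⟩
    by_cases hm : m = i
    · rw [hm, hle]; rfl
    · rw [hl.2 m hm]; rfl
  obtain ⟨b, hb, σ, hσ, hσi, hbe⟩ := exists_b h f hv hf1 hσ1 hij hne (hL hlL) hl
  obtain ⟨L, τ, hs⟩ := exists_T hA (AP h f hb) hσ i
  have hLe : ∀ w ∈ zl (S : Subgroup G) P, M.e (b * w * b⁻¹) i = L (M.e w i) := by
    intro w hw
    have := hs.e w hw
    rwa [hσi] at this
  have hv0 : M.e v i 1 ≠ 0 := by
    intro h0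
    refine f.notMem (hL ⟨hv.1, fun m => ?_⟩ : v ∈ EE (S : Subgroup G) P).2
    by_cases hm : m = i
    · rw [hm, h0]
    · rw [hv.2 m hm]; rfl
  have hLv : L (M.e v i) = M.e v i + ![1, 0] := by rw [← hLe v hv.1, hbe, hle]
  have key : ∀ c : F, L (c • M.e v i) = c • M.e v i → c = 0 := by
    intro c hc
    rw [hs.smul, hLv] at hc
    have h1 := congrFun hc 1
    have h0 := congrFun hc 0
    simp only [Pi.smul_apply, Pi.add_apply, smul_eq_mul, Matrix.cons_val_one, Matrix.cons_val_zero, add_zero] at h0 h1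
    have h2 : τ c = c := mul_right_cancel₀ hv0 h1
    rw [h2, mul_add, mul_one] at h0
    exact left_eq_add.1 h0.symm
  obtain ⟨w, hw, hwe⟩ := exists_fac M {i} fun _ => c • M.e v i
  have hwe := hwe i rfl
  rcases cent_or h f hv hf1 hσ1 hij hne hw with h1 | h1
  · left
    have h2 := h1 b hb σ hσ hσi
    rw [hLe w hw.1, hwe] at h2
    exact key c h2
  · right
    have h2 := h1 b hb σ hσ hσi
    rw [hLe _ (mul_mem hv.1 hw.1), M.mul v hv.1 w hw.1, Pi.add_apply, hwe] at h2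
    have e1 : M.e v i + c • M.e v i = (1 + c) • M.e v i := by rw [add_smul, one_smul]
    rw [e1] at h2
    have h3 := key _ h2
    have h4 : (1 : F) + c + c = c := by rw [h3, zero_add]
    rw [add_assoc, CharTwo.add_self_eq_zero, add_zero] at h4
    exact h4.symm

/-- **`Q` moves a summand: `k = 2`.** -/
theorem k_two (hL : Ln M ≤ EE (S : Subgroup G) P) : k = 2 := by
  classical
  have hA := amb h
  have hF := card_two h f hv hf1 hσ1 hij hne hL
  have hF1 : ∀ c : F, c ≠ 0 → c = 1 := fun c hc => (hF c).resolve_left hc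
  by_contra hk
  have hf1P := AP h f hf1
  have hv1 := v_ne_one h f hv hf1 hσ1 hij hne
  have hvi := comp_ne_zero hv hv1
  have hv0 : M.e v i 1 ≠ 0 := by
    intro h0
    refine f.notMem (hL ⟨hv.1, fun m => ?_⟩ : v ∈ EE (S : Subgroup G) P).2
    by_cases hm : m = i
    · rw [hm, h0]
    · rw [hv.2 m hm]; rfl
  have hvf : f1 * v * f1⁻¹ ∈ fac M {j} := hij ▸ conj_fac hA hσ1 hf1P hv
  have hvf0 : M.e (f1 * v * f1⁻¹) j 1 ≠ 0 := by
    rw [← hij, Ne, line hA (f.A_le_S h hf1) hσ1 hv.1]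
    exact hv0
  -- the relation
  let R : Fin k → Fin k → Prop := fun a b => ∃ x ∈ fac M {a}, ∃ y ∈ fac M {b}, M.e x a 1 ≠ 0 ∧
    M.e y b 1 ≠ 0 ∧ x * y ∈ EE (S : Subgroup G) P
  have hprod : ∀ a, ∀ x ∈ fac M {a}, ∀ y ∈ fac M {a}, M.e x a 1 ≠ 0 → M.e y a 1 ≠ 0 →
      x * y ∈ EE (S : Subgroup G) P := by
    intro a x hx y hy hx1 hy1
    refine hL ⟨mul_mem hx.1 hy.1, fun m => ?_⟩
    rw [M.mul x hx.1 y hy.1, Pi.add_apply, Pi.add_apply]
    by_cases hm : m = a
    · rw [hm, hF1 _ hx1, hF1 _ hy1]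
      exact CharTwo.add_self_eq_zero 1
    · rw [hx.2 m hm, hy.2 m hm]
      simp
  have hrefl : ∀ a, R a a := by
    intro a
    obtain ⟨x, hx, hxe⟩ := exists_fac M {a} fun _ => ![0, 1]
    have hxe := hxe a rfl
    have h1 : M.e x a 1 ≠ 0 := by rw [hxe]; exact one_ne_zero
    exact ⟨x, hx, x, hx, h1, h1, hprod a x hx x hx h1 h1⟩
  have htrans : ∀ a b c, R a b → R b c → R a c := by
    rintro a b c ⟨x, hx, y, hy, hx1, hy1, hxy⟩ ⟨y', hy', z, hz, hy1', hz1, hyz⟩
    refine ⟨x, hx, z, hz, hx1, hz1, ?_⟩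
    have h1 := mul_mem (mul_mem hxy (hprod b y hy y' hy' hy1 hy1')) hyz
    have e1 : x * y * (y * y') * (y' * z) = x * (y * y) * (y' * y') * z := by group
    rw [e1, sq_self hA hy.1, sq_self hA hy'.1, mul_one, mul_one] at h1
    exact h1
  have hinv : ∀ t ∈ (S : Subgroup G), ∀ σ, Mv M t σ → ∀ a b, R a b → R (σ a) (σ b) := by
    rintro t ht σ hσ a b ⟨x, hx, y, hy, hx1, hy1, hxy⟩
    have htP := h.S_le ht
    refine ⟨t * x * t⁻¹, conj_fac hA hσ htP hx, t * y * t⁻¹, conj_fac hA hσ htP hy, ?_, ?_, ?_⟩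
    · rwa [Ne, line hA ht hσ hx.1]
    · rwa [Ne, line hA ht hσ hy.1]
    · have := E_conj h ht hxy
      have e1 : t * (x * y) * t⁻¹ = t * x * t⁻¹ * (t * y * t⁻¹) := by group
      rwa [e1] at this
  have hRij : R i j := ⟨v, hv, _, hvf, hv0, hvf0, f.comm_mem hv.1 hf1⟩
  have hclass : ∀ m, R i m → m = i ∨ m = j := by
    rintro m ⟨x, hx, y, hy, hx1, hy1, hxy⟩
    by_contra hcon
    push Not at hcon
    obtain ⟨hmi, hmj⟩ := hcon
    have he : v * y ∈ EE (S : Subgroup G) P := by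
      have h1 := mul_mem (hprod i v hv x hx hv0 hx1) hxy
      have e1 : v * x * (x * y) = v * (x * x) * y := by group
      rwa [e1, sq_self hA hx.1, mul_one] at h1
    obtain ⟨a, ha, d, hd, hE⟩ := dec (M := M) h f he
    have haP := AP h f ha
    obtain ⟨σa, hσa⟩ := M.perm a haP
    have hva : a * v * a⁻¹ ∈ fac M {σa i} := conj_fac hA hσa haP hv
    have hva0 : M.e (a * v * a⁻¹) (σa i) ≠ 0 := by rw [Ne, hσa v hv.1]; exact hvi
    have hdV := f.near.DV hd
    have hE' : ∀ m, M.e d m = M.e (a * v * a⁻¹) m + M.e y m := by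
      intro m
      rw [hE, M.mul v hv.1 y hy.1, Pi.add_apply]
      have e2 : ∀ x y z : Fin 2 → F, x + y + (x + z) = y + z := by
        intro x y z
        rw [add_add_add_comm, show x + x = 0 from funext fun _ => CharTwo.add_self_eq_zero _, zero_add]
      exact e2 _ _ _
    have h3 := supp_iff hA hσ1 hdV (f.D_fix hf1 hd) (σa i)
    rcases orbit h f hv hf1 hσ1 hij hne ha hσa with h1 | h1
    · rw [h1, hij, hE', hE', hy.2 i fun h' => hmi h'.symm, hy.2 j fun h' => hmj h'.symm,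
        hva.2 j (by rw [h1]; exact hne)] at h3
      rw [h1] at hva0
      apply hva0
      have := h3.1 (add_zero 0)
      rwa [add_zero] at this
    · rw [h1, sigma_j h f hv hf1 hσ1 hij hne, hE', hE', hy.2 i fun h' => hmi h'.symm,
        hy.2 j fun h' => hmj h'.symm, hva.2 i (by rw [h1]; exact hne.symm)] at h3
      rw [h1] at hva0
      apply hva0
      have := h3.1 (add_zero 0)
      rwa [add_zero] at this
  -- a third summand
  obtain ⟨m₀, hm₀⟩ : ∃ m₀, ¬ R i m₀ := by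
    by_contra hcon
    push Not at hcon
    have h1 : (Finset.univ : Finset (Fin k)) ⊆ {i, j} := by
      intro m _
      rw [Finset.mem_insert, Finset.mem_singleton]
      exact hclass m (hcon m)
    have h2 := Finset.card_le_card h1
    rw [Finset.card_univ, Fintype.card_fin] at h2
    have h3 : Finset.card ({i, j} : Finset (Fin k)) ≤ 2 := Finset.card_le_two
    have h4 : 2 ≤ k := by
      by_contra h5
      have h6 := i.2
      have h7 := j.2
      exact hne (Fin.ext (by omega))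
    omega
  obtain ⟨B, hB, hBi⟩ := exists_blk hA S.isPGroup' R hrefl htrans hinv hm₀
  have hiB := hBi i (hrefl i)
  have hjB := hBi j hRij
  -- the element of the lines with full support in `B`
  obtain ⟨l, hl, hle⟩ := exists_fac M B fun _ => ![1, 0]
  have hlL : l ∈ Ln M := by
    refine ⟨hl.1, fun m => ?_⟩
    by_cases hm : m ∈ B
    · rw [hle m hm]; rfl
    · rw [hl.2 m hm]; rfl
  have hlD : l ∈ DD (S : Subgroup G) P g := by
    obtain ⟨a, ha, d, hd, hE⟩ := dec (M := M) h f (hL hlL)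
    have haP := AP h f ha
    obtain ⟨σa, hσa⟩ := M.perm a haP
    have hva : a * v * a⁻¹ ∈ fac M {σa i} := conj_fac hA hσa haP hv
    have hdV := f.near.DV hd
    rcases orbit h f hv hf1 hσ1 hij hne ha hσa with h1 | h1
    · -- `v ^ a = v`
      have h2 := supp_iff hA hσ1 hdV (f.D_fix hf1 hd) i
      rw [hij, hE, hE, hl.2 i hiB, hl.2 j hjB, hv.2 j hne, hva.2 j (by rw [h1]; exact hne)] at h2
      have h3 := h2.1 (by simp)
      rw [add_zero] at h3
      have h4 : d = l := by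
        apply inj M hdV hl.1
        funext m
        rw [hE]
        by_cases hm : m = i
        · rw [hm, h3, zero_add]
        · rw [hv.2 m hm, hva.2 m (by rw [h1]; exact hm), zero_add, zero_add]
      rwa [← h4]
    · exfalso
      -- the component `v` of `d` would be centralised
      obtain ⟨l', hl', hle'⟩ := exists_fac M {i} fun _ => ![1, 0]
      have hle' := hle' i rfl
      have hlL' : l' ∈ Ln M := by
        refine ⟨hl'.1, fun m => ?_⟩
        by_cases hm : m = i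
        · rw [hm, hle']; rfl
        · rw [hl'.2 m hm]; rfl
      obtain ⟨b, hb, σ, hσ, hσi, hbe⟩ := exists_b h f hv hf1 hσ1 hij hne (hL hlL') hl'
      have h2 : M.e d i = M.e v i := by
        rw [hE, hva.2 i (by rw [h1]; exact hne.symm), hl.2 i hiB, add_zero, add_zero]
      have h3 := comp_eq hA hσ (AP h f hb) hdV hv.1 h2
      rw [f.D_fix hb hd, hσi, h2, hbe, hle'] at h3
      have h4 := congrFun h3 0
      rw [Pi.add_apply] at h4
      have h5 : (![1, 0] : Fin 2 → F) 0 = 0 := left_eq_add.1 h4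
      exact one_ne_zero h5
  have h6 := (app_nat h.ctx.char2 S hA hB hl fun m hm => by
    rw [hle m hm]
    intro h0
    exact one_ne_zero (congrFun h0 0)).1
  exact f.not_mem_o2_centralizer hlD (h6 ⟨hv.1, fun m hm => hv.2 m fun h' => hm (by
    rw [show m = i from h']
    exact hiB)⟩)

end swap

end Cfsg.Agent.Omega.NO1.Many

end

section


/-!
# The leaf N1, `V_P` a sum of `k ≥ 2` natural modules, `A` fixes the summand of `v` (text helper727 #14576 (3), (4))

`v ∈ V_i - E`, a frame at `v`, all elements of `A = E^g` fix `i`; the lines lie in `E` and `E` is not the sum of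
the lines.  `fix_false` : contradiction.
-/

set_option autoImplicit false
set_option linter.unusedSectionVars false

namespace Cfsg.Agent.Omega.NO1.Many

open Subgroup Cfsg Cfsg.Agent.ZN Cfsg.Agent.Omega.MinPar Cfsg.Agent.Omega.Frame Cfsg.Agent.Omega.FFThm
open Cfsg.Agent.Omega.NoFF.LinesPlug (CC NoOne)
open Cfsg.Agent.Omega.Half Cfsg.Agent.Omega.Half.NatA
open Cfsg.Agent.Lib.SL2Mat Cfsg.Agent.Omega.NatPair
open scoped Pointwise

universe u

variable {G : Type u} [Group G] {F : Type} [Field F]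

theorem add_self' [CharP F 2] (x : Fin 2 → F) : x + x = 0 := funext fun _ => CharTwo.add_self_eq_zero _

theorem decomp (x : Fin 2 → F) : x = x 0 • ![1, 0] + x 1 • ![0, 1] := by
  apply ext2
  · simp
  · simp

section lin

variable [CharP F 2] {T H V : Subgroup G} {k : ℕ} {M : NatK F T H V ⊥ k} (hA : Amb T H V) {a : G} (ha : a ∈ T)
  (ha2 : a * a = 1) {σ : Equiv.Perm (Fin k)} (hσ : Mv M a σ) {i : Fin k} (hσi : σ i = i)
  {L : (Fin 2 → F) → (Fin 2 → F)} {τ : F → F} (hs : Sem M a σ i L τ)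

include hA ha ha2 hσ hσi hs

theorem sem_e {w : G} (hw : w ∈ V) : M.e (a * w * a⁻¹) i = L (M.e w i) := by
  have := hs.e w hw
  rwa [hσi] at this

theorem sem_sq (x : Fin 2 → F) : L (L x) = x := by
  obtain ⟨w, hw, hx⟩ := exists_fac M {i} fun _ => x
  have hx := hx i rfl
  have h1 := sem_e hA ha ha2 hσ hσi hs hw.1
  have h2 := sem_e hA ha ha2 hσ hσi hs (hA.conj_mem (hA.TH ha) hw.1)
  have e : a * (a * w * a⁻¹) * a⁻¹ = (a * a) * w * (a * a)⁻¹ := by group
  rw [e, ha2, one_mul, inv_one, mul_one, h1, hx] at h2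
  exact h2.symm

theorem sem_line (x : Fin 2 → F) : L x 1 = 0 ↔ x 1 = 0 := by
  obtain ⟨w, hw, hx⟩ := exists_fac M {i} fun _ => x
  have hx := hx i rfl
  have h1 := line hA ha hσ hw.1 i
  rw [hs.e w hw.1, hx] at h1
  exact h1

/-- a linear involution of `A` acts as an upper unitriangular matrix -/
theorem sem_lin (hτ : ∀ c, τ c = c) : ∃ b : F, ∀ x : Fin 2 → F, L x = x + (x 1 * b) • ![1, 0] := by
  have hlin : ∀ (c : F) x, L (c • x) = c • L x := fun c x => by rw [hs.smul, hτ]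
  have h10 : L ![1, 0] 1 = 0 := (sem_line hA ha ha2 hσ hσi hs ![1, 0]).2 rfl
  have hL1 : L ![1, 0] = (L ![1, 0] 0) • ![1, 0] := by
    apply ext2
    · simp
    · rw [h10]; simp
  have hsq : ∀ c : F, c * c = 1 → c = 1 := by
    intro c hc
    have h1 : (c + 1) * (c + 1) = 0 := by
      have : (c + 1) * (c + 1) = c * c + 1 + (c + c) := by ring
      rw [this, hc, CharTwo.add_self_eq_zero, CharTwo.add_self_eq_zero, add_zero]
    have h2 : c + 1 = 0 := by
      rcases mul_eq_zero.1 h1 with h | h <;> exact h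
    have h3 : c + 1 + 1 = 1 := by rw [h2, zero_add]
    rwa [add_assoc, CharTwo.add_self_eq_zero, add_zero] at h3
  set c := L ![1, 0] 0 with hc
  have h2 := sem_sq hA ha ha2 hσ hσi hs ![1, 0]
  rw [hL1, hlin, hL1] at h2
  have h3 := congrFun h2 0
  simp only [Pi.smul_apply, smul_eq_mul, Matrix.cons_val_zero, mul_one] at h3
  have hc1 := hsq c h3
  rw [hc1, one_smul] at hL1
  -- the other basis vector
  have h4 := sem_sq hA ha ha2 hσ hσi hs ![0, 1]
  set b := L ![0, 1] 0 with hb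
  set d := L ![0, 1] 1 with hd
  have hL2 : L ![0, 1] = b • ![1, 0] + d • ![0, 1] := decomp (L ![0, 1])
  rw [hL2, hs.add, hlin, hlin, hL1, hL2] at h4
  have h5 := congrFun h4 1
  simp only [Pi.smul_apply, Pi.add_apply, smul_eq_mul, Matrix.cons_val_one, Matrix.cons_val_zero, mul_one, mul_zero,
    zero_add] at h5
  have hd1 := hsq d h5
  refine ⟨b, fun x => ?_⟩
  conv_lhs => rw [decomp x]
  rw [hs.add, hlin, hlin, hL1, hL2, hd1]
  apply ext2
  · simp
  · simp

end lin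

/-! ### All elements of `A` fix `i` -/

section fix

variable [Finite G] {S : Sylow 2 G} {P : Subgroup G} (h : Cfg S P) [CharP F 2] [Finite F] {k : ℕ}
  {M : NatK F (S : Subgroup G) P (zl (S : Subgroup G) P) ⊥ k} {v g : G} (f : Fam S P v g)
  {i : Fin k} (hv : v ∈ fac M {i})
  (hfix : ∀ a ∈ AA (S : Subgroup G) P g, ∀ σ, Mv M a σ → σ i = i)
  {e₀ : G} (he₀ : e₀ ∈ EE (S : Subgroup G) P) (he₀i : M.e e₀ i 1 ≠ 0)

include f in
/-- `A ≰ D` -/
theorem not_A_le : ¬ AA (S : Subgroup G) P g ≤ DD (S : Subgroup G) P g := by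
  intro hAD
  refine f.fin.ne (le_antisymm inf_le_left ?_)
  have h1 : AA (S : Subgroup G) P g ≤ EE (S : Subgroup G) P := hAD.trans inf_le_left
  have h2 : AA (S : Subgroup G) P g = EE (S : Subgroup G) P :=
    Subgroup.eq_of_le_of_card_ge h1 (by rw [NOne.Choice.card_conj])
  exact le_inf le_rfl h2.ge

include h f hv hfix he₀ he₀i

/-- some element of `A` acts nonlinearly on `V_i` -/
theorem exists_nonlin : ∃ a ∈ AA (S : Subgroup G) P g, ∃ σ, Mv M a σ ∧ σ i = i ∧
    ∃ L τ, Sem M a σ i L τ ∧ ∃ c, τ c ≠ c := by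
  have hA := amb h
  by_contra hcon
  push Not at hcon
  apply not_A_le f
  intro b hb
  have hlin : ∀ a ∈ AA (S : Subgroup G) P g, ∃ β : F, ∀ w ∈ zl (S : Subgroup G) P,
      M.e (a * w * a⁻¹) i = M.e w i + (M.e w i 1 * β) • ![1, 0] := by
    intro a ha
    obtain ⟨σ, hσ⟩ := M.perm a (AP h f ha)
    have hσi := hfix a ha σ hσ
    obtain ⟨L, τ, hs⟩ := exists_T hA (AP h f ha) hσ i
    obtain ⟨β, hβ⟩ := sem_lin hA (f.A_le_S h ha) (f.A_sq ha) hσ hσi hs (hcon a ha σ hσ hσi L τ hs)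
    refine ⟨β, fun w hw => ?_⟩
    rw [sem_e hA (f.A_le_S h ha) (f.A_sq ha) hσ hσi hs hw, hβ]
  obtain ⟨a, ha, d, hd, hE⟩ := dec (M := M) h f he₀
  have hdV := f.near.DV hd
  obtain ⟨α, hα⟩ := hlin a ha
  have h1 : M.e d i 1 ≠ 0 := by
    rw [hE, hα v hv.1, Pi.add_apply, Pi.add_apply, Pi.add_apply]
    simp only [Pi.smul_apply, smul_eq_mul, Matrix.cons_val_one, Matrix.cons_val_zero, mul_zero, add_zero]
    rw [CharTwo.add_self_eq_zero, zero_add]
    exact he₀i
  obtain ⟨β, hβ⟩ := hlin b hb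
  have h2 := hβ d hdV
  rw [f.D_fix hb hd] at h2
  have h3 := congrFun h2 0
  simp only [Pi.add_apply, Pi.smul_apply, smul_eq_mul, Matrix.cons_val_zero, mul_one] at h3
  have h4 : M.e d i 1 * β = 0 := left_eq_add.1 h3
  have h5 : β = 0 := (mul_eq_zero.1 h4).resolve_left h1
  refine f.mem_D hb ?_
  obtain ⟨σ, hσ⟩ := M.perm b (AP h f hb)
  have hσi := hfix b hb σ hσ
  have h6 : b * v * b⁻¹ ∈ fac M {i} := by
    have := conj_fac hA hσ (AP h f hb) hv
    rwa [hσi] at this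
  apply eq_of_comp h6 hv
  rw [hβ v hv.1, h5, mul_zero, zero_smul, add_zero]

/-- `D ∩ V_m ≠ 1` for `m ≠ i` -/
theorem exists_D (hL : Ln M ≤ EE (S : Subgroup G) P) {m : Fin k} (hm : m ≠ i) :
    ∃ x ∈ DD (S : Subgroup G) P g, x ∈ fac M {m} ∧ M.e x m ≠ 0 := by
  classical
  have hA := amb h
  obtain ⟨a, ha, σ, hσ, hσi, L, τ, hs, c, hc⟩ := exists_nonlin h f hv hfix he₀ he₀i
  have haP := AP h f ha
  have hLe : ∀ w ∈ zl (S : Subgroup G) P, M.e (a * w * a⁻¹) i = L (M.e w i) := fun w hw =>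
    sem_e hA (f.A_le_S h ha) (f.A_sq ha) hσ hσi hs hw
  -- an element of `E ∩ V_i` outside the line
  obtain ⟨e₁, he₁, he₁i, he₁1⟩ : ∃ e₁ ∈ EE (S : Subgroup G) P, e₁ ∈ fac M {i} ∧ M.e e₁ i 1 ≠ 0 := by
    have hx : ∃ x : Fin 2 → F, L x 1 ≠ x 1 := by
      by_contra hcon
      push Not at hcon
      apply hc
      have h1 := hcon (c • ![0, 1])
      rw [hs.smul, Pi.smul_apply, hcon, Pi.smul_apply] at h1
      simpa using h1
    obtain ⟨x, hx⟩ := hx
    obtain ⟨w, hw, hwx⟩ := exists_fac M {i} fun _ => x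
    have hwx := hwx i rfl
    have h1 : a * w * a⁻¹ ∈ fac M {i} := by
      have := conj_fac hA hσ haP hw
      rwa [hσi] at this
    refine ⟨w * (a * w * a⁻¹), f.comm_mem hw.1 ha, mul_mem hw h1, ?_⟩
    rw [M.mul w hw.1 _ h1.1, Pi.add_apply, Pi.add_apply, hLe w hw.1, hwx]
    intro h2
    apply hx
    have h3 : x 1 + L x 1 + L x 1 = L x 1 := by rw [h2, zero_add]
    rw [add_assoc, CharTwo.add_self_eq_zero, add_zero] at h3
    exact h3.symm
  -- an element of `E ∩ V_m` outside the line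
  obtain ⟨e₂, he₂, he₂m, he₂1⟩ : ∃ e₂ ∈ EE (S : Subgroup G) P, e₂ ∈ fac M {m} ∧ M.e e₂ m 1 ≠ 0 := by
    obtain ⟨t, ht, h1⟩ := M.trans i m
    obtain ⟨ρ, hρ⟩ := M.perm t (h.S_le ht)
    have h2 := Mv.unique M hA (σ := ρ) hρ (h.S_le ht) h1
    refine ⟨t * e₁ * t⁻¹, E_conj h ht he₁, h2 ▸ conj_fac hA hρ (h.S_le ht) he₁i, ?_⟩
    rw [← h2, Ne, line hA ht hρ he₁i.1]
    exact he₁1
  -- the elements of the line of `V_m`
  have hl : ∀ b : F, ∃ l ∈ EE (S : Subgroup G) P, l ∈ fac M {m} ∧ M.e l m = ![b, 0] := by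
    intro b
    obtain ⟨l, hl, hlb⟩ := exists_fac M {m} fun _ => ![b, 0]
    have hlb := hlb m rfl
    refine ⟨l, hL ⟨hl.1, fun n => ?_⟩, hl, hlb⟩
    by_cases hn : n = m
    · rw [hn, hlb]; rfl
    · rw [hl.2 n hn]; rfl
  choose l hlE hlm hlb using hl
  -- each element `e` of `E ∩ V_m` gives a fixed vector of `L`
  have hd : ∀ e ∈ EE (S : Subgroup G) P, e ∈ fac M {m} → ∃ d ∈ DD (S : Subgroup G) P g,
      L (M.e d i) = M.e d i ∧ M.e d m = M.e e m ∧ ∀ n, n ≠ i → n ≠ m → M.e d n = 0 := by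
    intro e he hem
    obtain ⟨b, hb, d, hd, hE⟩ := dec (M := M) h f he
    obtain ⟨ρ, hρ⟩ := M.perm b (AP h f hb)
    have hρi := hfix b hb ρ hρ
    have hvb : b * v * b⁻¹ ∈ fac M {i} := by
      have := conj_fac hA hρ (AP h f hb) hv
      rwa [hρi] at this
    refine ⟨d, hd, ?_, ?_, fun n hni hnm => ?_⟩
    · rw [← hLe d (f.near.DV hd), f.D_fix ha hd]
    · rw [hE, hv.2 m hm, hvb.2 m hm, zero_add, zero_add]
    · rw [hE, hv.2 n hni, hvb.2 n hni, hem.2 n hnm]
      simp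
  let ψ : Option F → G := fun o => o.elim e₂ l
  have hψE : ∀ o, ψ o ∈ EE (S : Subgroup G) P := by
    rintro (_ | b)
    · exact he₂
    · exact hlE b
  have hψm : ∀ o, ψ o ∈ fac M {m} := by
    rintro (_ | b)
    · exact he₂m
    · exact hlm b
  have hψi : ∀ o o', M.e (ψ o) m = M.e (ψ o') m → o = o' := by
    rintro (_ | b) (_ | b') h1
    · rfl
    · exfalso
      apply he₂1
      have h2 : M.e e₂ m = M.e (l b') m := h1
      rw [h2, hlb]
      rfl
    · exfalso
      apply he₂1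
      have h2 : M.e (l b) m = M.e e₂ m := h1
      rw [← h2, hlb]
      rfl
    · have h2 : M.e (l b) m = M.e (l b') m := h1
      rw [hlb, hlb] at h2
      have h3 : b = b' := congrFun h2 0
      rw [h3]
  choose δ hδD hδL hδm hδ0 using fun o => hd (ψ o) (hψE o) (hψm o)
  let C : Type := {x : Fin 2 → F // L x = x}
  have hfin : Finite C := Subtype.finite
  -- `|C| ≤ |F|`
  have hC : Nat.card C ≤ Nat.card F := by
    have hadd : ∀ x y : C, L (x.1 + y.1) = x.1 + y.1 := fun x y => by rw [hs.add, x.2, y.2]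
    have h1 : Function.Injective (fun p : C × C => (p.1.1 + c • p.2.1 : Fin 2 → F)) := by
      rintro ⟨x, y⟩ ⟨x', y'⟩ hxy
      have hxy : x.1 + c • y.1 = x'.1 + c • y'.1 := hxy
      have h2 : x.1 + x'.1 = c • (y.1 + y'.1) := by
        calc x.1 + x'.1 = (x.1 + c • y.1) + (x'.1 + c • y.1) := by
              rw [add_add_add_comm, add_self' (c • y.1), add_zero]
          _ = (x'.1 + c • y'.1) + (x'.1 + c • y.1) := by rw [hxy]
          _ = c • (y.1 + y'.1) := by
              rw [add_add_add_comm, add_self' x'.1, zero_add, smul_add, add_comm]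
      have h3 : L (x.1 + x'.1) = x.1 + x'.1 := hadd x x'
      rw [h2, hs.smul, hadd y y'] at h3
      have h4 : y.1 + y'.1 = 0 := by
        by_contra h0
        exact hc (smul_left_injective F h0 h3)
      have h5 : y = y' := Subtype.ext (add_eq_zero_iff'.1 h4)
      have h6 : x = x' := by
        rw [h4, smul_zero] at h2
        exact Subtype.ext (add_eq_zero_iff'.1 h2)
      rw [h5, h6]
    have h2 := Nat.card_le_card_of_injective _ h1
    rw [Nat.card_prod, Nat.card_fun, Nat.card_eq_fintype_card (α := Fin 2), Fintype.card_fin, pow_two] at h2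
    exact Nat.mul_self_le_mul_self_iff.1 h2
  have hlt : Nat.card C < Nat.card (Option F) := by
    rw [Finite.card_option]
    omega
  let χ : Option F → C := fun o => ⟨M.e (δ o) i, hδL o⟩
  obtain ⟨o, o', hne, heq⟩ : ∃ o o', o ≠ o' ∧ χ o = χ o' := by
    by_contra hcon
    push Not at hcon
    have h1 : Function.Injective χ := fun o o' h' => by
      by_contra h2
      exact hcon o o' h2 h'
    exact absurd (Nat.card_le_card_of_injective _ h1) (not_le.2 hlt)
  have heq' : M.e (δ o) i = M.e (δ o') i := congrArg Subtype.val heq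
  have hV : ∀ o, δ o ∈ zl (S : Subgroup G) P := fun o => f.near.DV (hδD o)
  refine ⟨δ o * δ o', mul_mem (hδD o) (hδD o'), ⟨mul_mem (hV o) (hV o'), fun n hn => ?_⟩, ?_⟩
  · rw [M.mul _ (hV o) _ (hV o'), Pi.add_apply]
    by_cases hni : n = i
    · rw [hni, heq', add_self']
    · rw [hδ0 o n hni hn, hδ0 o' n hni hn, add_zero]
  · rw [M.mul _ (hV o) _ (hV o'), Pi.add_apply, hδm, hδm]
    intro h0
    exact hne (hψi o o' (add_eq_zero_iff'.1 h0))

/-- **The elements of `A` cannot fix the summand of `v`, if `E` is not the sum of the lines.** -/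
theorem fix_false (hk : 2 ≤ k) (hL : Ln M ≤ EE (S : Subgroup G) P) : False := by
  classical
  have hA := amb h
  obtain ⟨m₀, hm₀⟩ : ∃ m₀ : Fin k, ¬ i = m₀ := by
    by_cases h0 : i = ⟨0, by omega⟩
    · exact ⟨⟨1, by omega⟩, fun h1 => by
        have h2 := congrArg Fin.val (h0.symm.trans h1)
        exact absurd h2 (by simp)⟩
    · exact ⟨_, h0⟩
  obtain ⟨B, hB, hBi⟩ := exists_blk (M := M) hA S.isPGroup' (fun a b : Fin k => a = b) (fun _ => rfl)
    (fun _ _ _ h1 h2 => h1.trans h2) (fun _ _ σ _ a b hab => congrArg σ hab) hm₀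
  have hiB : i ∉ B := hBi i rfl
  have hD : ∀ m : Fin k, m ∈ B → ∃ x ∈ DD (S : Subgroup G) P g, x ∈ fac M {m} ∧ M.e x m ≠ 0 := by
    intro m hm
    exact exists_D h f hv hfix he₀ he₀i hL fun h' => hiB (h' ▸ hm)
  choose! x hxD hxm hx0 using hD
  obtain ⟨u, hu, hue⟩ := exists_fac M B fun m => M.e (x m) m
  have huD : u ∈ DD (S : Subgroup G) P g := by
    refine mem_of_comps (M := M) hu.1 fun m => ?_
    by_cases hm : m ∈ B
    · exact ⟨x m, hxD m hm, hxm m hm, (hue m hm).symm⟩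
    · refine ⟨1, one_mem _, one_mem _, ?_⟩
      rw [hu.2 m hm, e_one]
      rfl
  have h6 := (app_nat h.ctx.char2 S hA hB hu fun m hm => by
    rw [hue m hm]
    exact hx0 m hm).1
  exact f.not_mem_o2_centralizer huD (h6 ⟨hv.1, fun m hm => hv.2 m fun h' => hm (by
    rw [show m = i from h']
    exact hiB)⟩)

end fix

end Cfsg.Agent.Omega.NO1.Many

end

section


/-!
# The leaf N1, `V_P` a sum of `k ≥ 2` natural modules: the trichotomy (text helper727 #14576, referee #15070)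

* `quad` : if `E ≤ Ln` (the sum of the lines) then `E = Ln`;
* `trich` : `E = Ln` or (`|F| = 2` and `k = 2`).
-/

set_option autoImplicit false
set_option linter.unusedSectionVars false

namespace Cfsg.Agent.Omega.NO1.Many

open Subgroup Cfsg Cfsg.Agent.ZN Cfsg.Agent.Omega.MinPar Cfsg.Agent.Omega.Frame Cfsg.Agent.Omega.FFThm
open Cfsg.Agent.Omega.NoFF.LinesPlug (CC NoOne)
open Cfsg.Agent.Omega.Half Cfsg.Agent.Omega.Half.NatA
open Cfsg.Agent.Lib.SL2Mat Cfsg.Agent.Omega.NatPair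
open scoped Pointwise

universe u

variable {G : Type u} [Group G] [Finite G] {S : Sylow 2 G} {P : Subgroup G} (h : Cfg S P)
  {F : Type} [Field F] [CharP F 2] {k : ℕ} {M : NatK F (S : Subgroup G) P (zl (S : Subgroup G) P) ⊥ k}

theorem eq_one_of_pow {F : Type} [Field F] [CharP F 2] : ∀ (n : ℕ) (c : F), c ^ 2 ^ n = 1 → c = 1 := by
  intro n
  induction n with
  | zero => intro c hc; rwa [pow_zero, pow_one] at hc
  | succ n ih =>
    intro c hc
    apply ih
    rw [pow_succ, pow_mul, pow_two] at hc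
    have h1 : (c ^ 2 ^ n + 1) * (c ^ 2 ^ n + 1) = 0 := by
      have : (c ^ 2 ^ n + 1) * (c ^ 2 ^ n + 1) = c ^ 2 ^ n * c ^ 2 ^ n + 1 + (c ^ 2 ^ n + c ^ 2 ^ n) := by ring
      rw [this, hc, CharTwo.add_self_eq_zero, CharTwo.add_self_eq_zero, add_zero]
    have h2 : c ^ 2 ^ n + 1 = 0 := by
      rcases mul_eq_zero.1 h1 with h | h <;> exact h
    have h3 : c ^ 2 ^ n + 1 + 1 = 1 := by rw [h2, zero_add]
    rwa [add_assoc, CharTwo.add_self_eq_zero, add_zero] at h3

include h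

/-- `[V, Q] ≤ E` -/
theorem comm_Q {q w : G} (hq : q ∈ o2 (CC (S : Subgroup G))) (hw : w ∈ zl (S : Subgroup G) P) :
    w * (q * w * q⁻¹) ∈ EE (S : Subgroup G) P := by
  have hA := amb h
  have hqw : q * w * q⁻¹ ∈ zl (S : Subgroup G) P := hA.conj_mem (h.S_le (h.Q_le_S hq)) hw
  refine mem_inf.2 ⟨mul_mem hw hqw, ?_⟩
  have h1 : w⁻¹ * q * w ∈ o2 (CC (S : Subgroup G)) := by
    have := (mem_normalizer_iff.1 (le_normalizer_o2 _ (inv_mem (h.V_le_CC hw))) q).1 hq
    rwa [inv_inv] at this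
  have h2 : w * (q * w * q⁻¹) = (w⁻¹ * q * w) * q⁻¹ := by
    rw [self_inv hA hw]
    group
  rw [h2]
  exact mul_mem h1 (inv_mem hq)

/-- if `E` is in the sum of the lines then it is the sum of the lines -/
theorem quad (hE : ∀ e ∈ EE (S : Subgroup G) P, ∀ i, M.e e i 1 = 0) :
    Ln M ≤ o2 (CC (S : Subgroup G)) := by
  have hA := amb h
  intro y hy
  refine h.char2C (mem_inf.2 ⟨h.V_le_CC hy.1, mem_centralizer_iff.2 fun q hq => ?_⟩)
  have hqS : q ∈ (S : Subgroup G) := h.Q_le_S hq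
  have hqP := h.S_le hqS
  -- `q` fixes the second coordinates
  have h1 : ∀ w ∈ zl (S : Subgroup G) P, ∀ m, M.e (q * w * q⁻¹) m 1 = M.e w m 1 := by
    intro w hw m
    have h2 := hE _ (comm_Q h hq hw) m
    rw [M.mul w hw _ (hA.conj_mem hqP hw), Pi.add_apply, Pi.add_apply] at h2
    have h3 : M.e w m 1 + M.e (q * w * q⁻¹) m 1 + M.e (q * w * q⁻¹) m 1 = M.e (q * w * q⁻¹) m 1 := by
      rw [h2, zero_add]
    rw [add_assoc, CharTwo.add_self_eq_zero, add_zero] at h3
    exact h3.symm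
  obtain ⟨σ, hσ⟩ := M.perm q hqP
  have hσi : ∀ i, σ i = i := by
    intro i
    obtain ⟨w, hw, hwe⟩ := exists_fac M {i} fun _ => ![0, 1]
    have hwe := hwe i rfl
    refine mv_apply_eq hA hσ hqP hw fun h0 => ?_
    have h2 := h1 w hw.1 i
    rw [h0, hwe] at h2
    exact zero_ne_one h2
  have hfix : ∀ i, M.e (q * y * q⁻¹) i = M.e y i := by
    intro i
    obtain ⟨L, τ, hs⟩ := exists_T hA hqP hσ i
    have hLe : ∀ w ∈ zl (S : Subgroup G) P, M.e (q * w * q⁻¹) i = L (M.e w i) := by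
      intro w hw
      have := hs.e w hw
      rwa [hσi] at this
    have hL1 : ∀ x : Fin 2 → F, L x 1 = x 1 := by
      intro x
      obtain ⟨w, hw, hwe⟩ := exists_fac M {i} fun _ => x
      have hwe := hwe i rfl
      rw [← hwe, ← hLe w hw.1]
      exact h1 w hw.1 i
    have hτ : ∀ c, τ c = c := by
      intro c
      have h2 := hL1 (c • ![0, 1])
      rw [hs.smul, Pi.smul_apply, hL1, Pi.smul_apply] at h2
      simpa using h2
    have hL2 : L ![1, 0] = (L ![1, 0] 0) • ![1, 0] := by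
      apply ext2
      · simp
      · rw [hL1]; simp
    set c := L ![1, 0] 0 with hc
    -- `c = 1`
    obtain ⟨w, hw, hwe⟩ := exists_fac M {i} fun _ => ![1, 0]
    have hwe := hwe i rfl
    have hpow : ∀ n : ℕ, q ^ n * w * (q ^ n)⁻¹ ∈ zl (S : Subgroup G) P ∧
        M.e (q ^ n * w * (q ^ n)⁻¹) i = c ^ n • ![1, 0] := by
      intro n
      induction n with
      | zero => rw [pow_zero, one_mul, inv_one, mul_one, pow_zero, one_smul]; exact ⟨hw.1, hwe⟩
      | succ n ih =>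
        have e1 : q ^ (n + 1) * w * (q ^ (n + 1))⁻¹ = q * (q ^ n * w * (q ^ n)⁻¹) * q⁻¹ := by
          rw [pow_succ']; group
        rw [e1]
        refine ⟨hA.conj_mem hqP ih.1, ?_⟩
        rw [hLe _ ih.1, ih.2, hs.smul, hτ, hL2, smul_smul, pow_succ]
    obtain ⟨n, hn⟩ : ∃ n : ℕ, q ^ 2 ^ n = 1 := by
      obtain ⟨n, hn⟩ := S.isPGroup' ⟨q, hqS⟩
      exact ⟨n, congrArg Subtype.val hn⟩
    have h4 := (hpow (2 ^ n)).2
    rw [hn, one_mul, inv_one, mul_one, hwe] at h4
    have h5 := congrFun h4 0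
    simp only [Pi.smul_apply, smul_eq_mul, Matrix.cons_val_zero, mul_one] at h5
    have hc1 := eq_one_of_pow n c h5.symm
    rw [hc1, one_smul] at hL2
    rw [hLe y hy.1, decomp (M.e y i), hy.2 i, zero_smul, add_zero, hs.smul, hτ, hL2]
  have h6 : q * y * q⁻¹ = y := inj M (hA.conj_mem hqP hy.1) hy.1 (funext hfix)
  calc q * y = q * y * q⁻¹ * q := by group
    _ = y * q := by rw [h6]

/-- **The trichotomy of NatMany.** -/
theorem trich [Finite F] (M : NatK F (S : Subgroup G) P (zl (S : Subgroup G) P) ⊥ k) (hk : 2 ≤ k) :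
    (∀ v ∈ zl (S : Subgroup G) P, v ∈ o2 (CC (S : Subgroup G)) ↔ ∀ i, M.e v i 1 = 0) ∨
      (Nat.card F = 2 ∧ k = 2) := by
  have hA := amb h
  by_cases hE : ∀ e ∈ EE (S : Subgroup G) P, ∀ i, M.e e i 1 = 0
  · left
    intro v hv
    constructor
    · intro hvQ
      exact hE v (mem_inf.2 ⟨hv, hvQ⟩)
    · intro h1
      exact quad h hE ⟨hv, h1⟩
  · right
    push Not at hE
    obtain ⟨e₁, he₁, i₁, hi₁⟩ := hE
    have hL := Ln_le hA (E := EE (S : Subgroup G) P) inf_le_left (fun t ht e he => E_conj h ht he) he₁ hi₁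
    -- a summand not contained in `Q`
    obtain ⟨i, v, hv, hvQ⟩ : ∃ i, ∃ v ∈ fac M {i}, v ∉ o2 (CC (S : Subgroup G)) := by
      by_contra hcon
      push Not at hcon
      obtain ⟨v, hv, hvQ⟩ := h.exists_v
      apply hvQ
      refine mem_of_comps (M := M) hv fun i => ?_
      obtain ⟨x, hx, hxe⟩ := exists_fac M {i} (M.e v)
      exact ⟨x, hcon i x hx, hx, hxe i rfl⟩
    -- move `e₁` to `i`
    obtain ⟨t, ht, h1⟩ := M.trans i₁ i
    obtain ⟨ρ, hρ⟩ := M.perm t (h.S_le ht)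
    have h2 := Mv.unique M hA (σ := ρ) hρ (h.S_le ht) h1
    have he₀ : t * e₁ * t⁻¹ ∈ EE (S : Subgroup G) P := E_conj h ht he₁
    have he₀i : M.e (t * e₁ * t⁻¹) i 1 ≠ 0 := by
      rw [← h2, Ne, line hA ht hρ he₁.1]
      exact hi₁
    obtain ⟨g, f⟩ := exists_fam h hv.1 hvQ
    by_cases hfix : ∀ a ∈ AA (S : Subgroup G) P g, ∀ σ, Mv M a σ → σ i = i
    · exact (fix_false h f hv hfix he₀ he₀i hk hL).elim
    · push Not at hfix
      obtain ⟨f1, hf1, σ1, hσ1, hne⟩ := hfix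
      refine ⟨?_, k_two h f hv hf1 hσ1 rfl hne hL⟩
      have hF := card_two h f hv hf1 hσ1 rfl hne hL
      have h3 : Nat.card F = Nat.card (Fin 2) := by
        refine Nat.card_congr (Equiv.symm (Equiv.ofBijective (fun n : Fin 2 => if n = 0 then (0 : F) else 1) ⟨?_, ?_⟩))
        · intro a b hab
          fin_cases a <;> fin_cases b <;> simp_all
        · intro c
          rcases hF c with rfl | rfl
          · exact ⟨0, by simp⟩
          · exact ⟨1, by simp⟩
      rw [h3, Nat.card_eq_fintype_card, Fintype.card_fin]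

end Cfsg.Agent.Omega.NO1.Many

end

section


/-!
# The affine group of `Fin 3` and the nonzero vectors of `F₂²`

* `exists_perm`, `exists_perm'` : a pair of permutations of `Fin 3` acting on `(i + j, i - j)` acts on `(i, j)`
  by a pair of permutations, possibly with an interchange;
* `av` : the three nonzero vectors, `exists_sl` : `SL₂(2)` induces all permutations of them.
-/

set_option autoImplicit false
set_option linter.unusedSectionVars false

namespace Cfsg.Agent.Omega.NO1.Many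

open Cfsg.Agent.Lib.SL2Mat Cfsg.Agent.Omega.NatPair

/-- `x ↦ α x + β` -/
def aff (α β : Fin 3) (h : α ≠ 0) : Equiv.Perm (Fin 3) where
  toFun x := α * x + β
  invFun x := α * (x - β)
  left_inv := by revert α β; decide
  right_inv := by revert α β; decide

theorem aff_apply (α β : Fin 3) (h : α ≠ 0) (x : Fin 3) : aff α β h x = α * x + β := rfl

theorem exists_aff : ∀ φ : Fin 3 → Fin 3, Function.Injective φ →
    ∃ α β : Fin 3, α ≠ 0 ∧ ∀ x, φ x = α * x + β := by
  intro φ hφ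
  have h01 : φ 0 ≠ φ 1 := fun h => absurd (hφ h) (by decide)
  have h02 : φ 0 ≠ φ 2 := fun h => absurd (hφ h) (by decide)
  have h12 : φ 1 ≠ φ 2 := fun h => absurd (hφ h) (by decide)
  have key : ∀ a b c : Fin 3, a ≠ b → a ≠ c → b ≠ c → ∃ α β : Fin 3, α ≠ 0 ∧
      a = α * 0 + β ∧ b = α * 1 + β ∧ c = α * 2 + β := by decide
  obtain ⟨α, β, h, h0, h1, h2⟩ := key _ _ _ h01 h02 h12
  refine ⟨α, β, h, fun x => ?_⟩
  fin_cases x
  · exact h0
  · exact h1
  · exact h2

theorem eq_or : ∀ α γ : Fin 3, α ≠ 0 → γ ≠ 0 → γ = α ∨ γ = 2 * α := by decide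

/-- without interchange of the two lines -/
theorem exists_perm {φ ψ : Fin 3 → Fin 3} (hφ : Function.Injective φ) (hψ : Function.Injective ψ) :
    ∃ σ τ : Equiv.Perm (Fin 3), (∀ i j, σ i + τ j = φ (i + j) ∧ σ i - τ j = ψ (i - j)) ∨
      ∀ i j, σ j + τ i = φ (i + j) ∧ σ j - τ i = ψ (i - j) := by
  obtain ⟨α, β, hα, h1⟩ := exists_aff φ hφ
  obtain ⟨γ, δ, hγ, h2⟩ := exists_aff ψ hψ
  refine ⟨aff α (2 * (β + δ)) hα, aff α (δ - β) hα, ?_⟩
  simp only [aff_apply, h1, h2]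
  rcases eq_or α γ hα hγ with rfl | rfl
  · left
    clear hα hγ h1 h2 hφ hψ
    revert γ β δ
    decide
  · right
    clear hα hγ h1 h2 hφ hψ
    revert α β δ
    decide

/-- with interchange of the two lines -/
theorem exists_perm' {φ ψ : Fin 3 → Fin 3} (hφ : Function.Injective φ) (hψ : Function.Injective ψ) :
    ∃ σ τ : Equiv.Perm (Fin 3), (∀ i j, σ i + τ j = ψ (i - j) ∧ σ i - τ j = φ (i + j)) ∨
      ∀ i j, σ j + τ i = ψ (i - j) ∧ σ j - τ i = φ (i + j) := by
  obtain ⟨α, β, hα, h1⟩ := exists_aff φ hφ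
  obtain ⟨γ, δ, hγ, h2⟩ := exists_aff ψ hψ
  have h2α : 2 * α ≠ 0 := by
    clear h1
    revert α
    decide
  refine ⟨aff α (2 * (β + δ)) hα, aff (2 * α) (β - δ) h2α, ?_⟩
  simp only [aff_apply, h1, h2]
  rcases eq_or α γ hα hγ with rfl | rfl
  · left
    clear hα hγ h1 h2 hφ hψ h2α
    revert γ β δ
    decide
  · right
    clear hα hγ h1 h2 hφ hψ h2α
    revert α β δ
    decide

/-- the converse: a pair of permutations of `(i, j)` acts on `(i + j, i - j)` -/
theorem exists_split (σ τ : Equiv.Perm (Fin 3)) :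
    ∃ φ ψ : Fin 3 → Fin 3, Function.Injective φ ∧ Function.Injective ψ ∧
      ((∀ i j, σ i + τ j = φ (i + j) ∧ σ i - τ j = ψ (i - j)) ∨
        ∀ i j, σ i + τ j = ψ (i - j) ∧ σ i - τ j = φ (i + j)) := by
  obtain ⟨α, s, hα, h1⟩ := exists_aff σ σ.injective
  obtain ⟨γ, t, hγ, h2⟩ := exists_aff τ τ.injective
  rcases eq_or α γ hα hγ with rfl | rfl
  · refine ⟨aff γ (s + t) hα, aff γ (s - t) hα, Equiv.injective _, Equiv.injective _, Or.inl ?_⟩
    simp only [aff_apply, h1, h2]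
    clear hα hγ h1 h2
    revert γ s t
    decide
  · refine ⟨aff α (s - t) hα, aff α (s + t) hα, Equiv.injective _, Equiv.injective _, Or.inr ?_⟩
    simp only [aff_apply, h1, h2]
    clear hα hγ h1 h2
    revert α s t
    decide

section vec

variable {F : Type*} [Field F]

/-- the three nonzero vectors of `F₂²` -/
def av (F : Type*) [Field F] : Fin 3 → Fin 2 → F := ![![1, 0], ![0, 1], ![1, 1]]

variable [CharP F 2]

theorem av_add : ∀ i j : Fin 3, i ≠ j → av F i + av F j = av F (2 * (i + j)) := by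
  have h2 : (1 : F) + 1 = 0 := CharTwo.add_self_eq_zero 1
  intro i j hij
  fin_cases i <;> fin_cases j <;> first | exact absurd rfl hij | skip
  all_goals
    funext x
    fin_cases x <;> simp [av, h2]

theorem av_ne_zero (i : Fin 3) : av F i ≠ 0 := by
  intro h
  fin_cases i
  · exact one_ne_zero (congrFun h 0)
  · exact one_ne_zero (congrFun h 1)
  · exact one_ne_zero (congrFun h 0)

theorem av_injective : Function.Injective (av F) := by
  intro i j h
  by_contra hij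
  have h1 := av_add (F := F) i j hij
  rw [h] at h1
  have h3 : av F j + av F j = 0 := by
    funext x
    exact CharTwo.add_self_eq_zero _
  rw [h3] at h1
  exact av_ne_zero _ h1.symm

theorem exists_av (hF : ∀ c : F, c = 0 ∨ c = 1) {x : Fin 2 → F} (hx : x ≠ 0) : ∃ i, x = av F i := by
  rcases hF (x 0) with h0 | h0 <;> rcases hF (x 1) with h1 | h1
  · exact absurd (ext2 h0 h1) hx
  · exact ⟨1, ext2 h0 h1⟩
  · exact ⟨0, ext2 h0 h1⟩
  · exact ⟨2, ext2 h0 h1⟩

/-- `SL₂(2)` induces all permutations of the three vectors -/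
theorem exists_sl {φ : Fin 3 → Fin 3} (hφ : Function.Injective φ) :
    ∃ A : Matrix.SpecialLinearGroup (Fin 2) F, ∀ i, ap A (av F i) = av F (φ i) := by
  have h2 : (1 : F) + 1 = 0 := CharTwo.add_self_eq_zero 1
  have hneg : (-1 : F) = 1 := neg_eq_of_add_eq_zero_right h2
  have hdet : ∀ i j : Fin 3, i ≠ j → av F i 0 * av F j 1 - av F j 0 * av F i 1 = 1 := by
    intro i j hij
    fin_cases i <;> fin_cases j <;> first | exact absurd rfl hij | skip
    all_goals simp [av, hneg]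
  have h01 : φ 0 ≠ φ 1 := fun h => absurd (hφ h) (by decide)
  have h02 : φ 0 ≠ φ 2 := fun h => absurd (hφ h) (by decide)
  have h12 : φ 1 ≠ φ 2 := fun h => absurd (hφ h) (by decide)
  refine ⟨mk (av F (φ 0) 0) (av F (φ 1) 0) (av F (φ 0) 1) (av F (φ 1) 1) (hdet _ _ h01), fun i => ?_⟩
  fin_cases i
  · apply ext2
    · rw [ap_zero']; simp [av]
    · rw [ap_one']; simp [av]
  · apply ext2
    · rw [ap_zero']; simp [av]
    · rw [ap_one']; simp [av]
  · have h3 := av_add (F := F) _ _ h01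
    have h4 : 2 * (φ 0 + φ 1) = φ 2 := by
      have key : ∀ a b c : Fin 3, a ≠ b → a ≠ c → b ≠ c → 2 * (a + b) = c := by decide
      exact key _ _ _ h01 h02 h12
    rw [h4] at h3
    change ap _ (av F 2) = av F (φ 2)
    rw [← h3]
    apply ext2
    · rw [ap_zero']; simp [av]
    · rw [ap_one']; simp [av]

end vec

end Cfsg.Agent.Omega.NO1.Many

end
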